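import Groth.Agent.EtCoh.K961.Inv
import Mathlib.RingTheory.Trace.Basic
import Mathlib.RingTheory.Etale.Basic
import Mathlib.RingTheory.Localization.Away.Basic

/-!
# The symbol trace of a generically étale cover, on charts

* `Cpt T T' f`: the ring map `f` between toric charts is compatible with coordinates and Frobenius;
* `tr2`: the trace of two-forms of a finite free cover with the same coordinates;
* `Ch T B`: an étale chart of the finite cover `A/p → B` over a principal open of `A`;
* `Ch.val`: the value of the symbol trace, with its characterisation `Ch.val_eq`;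
* `IsTau T B z ω`: the two-form `ω` of `A` is the symbol trace of `z`.
-/

set_option autoImplicit false
set_option linter.unusedSectionVars false
universe u v

noncomputable section

namespace K961

open KaehlerDifferential K611.Gam K611.Gam2 K611.Frame K611.Top K720.Sym K56.T4 K961.Inv

/-- Compatibility of a ring map with two toric charts (possibly of different levels). -/
structure Cpt {p n n' : ℕ} {A A' : Type u} [CommRing A] [CommRing A'] (T : Tor p n A) (T' : Tor p n' A')
    (f : A →+* A') : Prop where
  x : ∀ i, f (T.fr.x i) = T'.fr.x i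
  φ : ∀ a, f (T.φ a) = T'.φ (f a)

/-- The trace of two-forms. -/
def tr2 {A E : Type u} [CommRing A] [CommRing E] [Algebra A E] (F : Fr A (Fin 2)) (G : Fr E (Fin 2)) :
    Om2 E →+ Om2 A where
  toFun η := Algebra.trace A E (det G η) • vol F
  map_zero' := by rw [map_zero, map_zero, zero_smul]
  map_add' x y := by rw [map_add, map_add, add_smul]

theorem tr2_apply {A E : Type u} [CommRing A] [CommRing E] [Algebra A E] (F : Fr A (Fin 2)) (G : Fr E (Fin 2))
    (η : Om2 E) : tr2 F G η = Algebra.trace A E (det G η) • vol F := rfl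

theorem tr2_smul_vol {A E : Type u} [CommRing A] [CommRing E] [Algebra A E] (F : Fr A (Fin 2)) (G : Fr E (Fin 2))
    (e : E) : tr2 F G (e • vol G) = Algebra.trace A E e • vol F := by
  rw [tr2_apply, map_smul, det_vol, smul_eq_mul, mul_one]

/-- An étale chart of the finite cover `A/p → B`. -/
structure Ch {p n : ℕ} {A : Type u} [CommRing A] (T : Tor p n A) (B : Type u) [CommRing B] [Algebra A B] where
  g : A
  hg : g ∈ nonZeroDivisors A
  A' : Type u
  [cA' : CommRing A']
  [aA' : Algebra A A']
  [lA' : IsLocalization.Away g A']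
  T' : Tor p n A'
  cpt : Cpt T T' (algebraMap A A')
  E : Type u
  [cE : CommRing E]
  [aE : Algebra A' E]
  [fE : Module.Finite A' E]
  [rE : Module.Free A' E]
  [eE : Algebra.Etale A' E]
  TE : Tor p n E
  cptE : Cpt T' TE (algebraMap A' E)
  B' : Type u
  [cB' : CommRing B']
  [aB' : Algebra B B']
  [lB' : IsLocalization.Away (algebraMap A B g) B']
  q : E →+* B'
  hq : Function.Surjective q
  kq : RingHom.ker q = Ideal.span {(p : E)}
  comm : ∀ a : A, q (algebraMap A' E (algebraMap A A' a)) = algebraMap B B' (algebraMap A B a)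

attribute [instance] Ch.cA' Ch.aA' Ch.lA' Ch.cE Ch.aE Ch.fE Ch.rE Ch.eE Ch.cB' Ch.aB' Ch.lB'

variable {p n : ℕ} [hp : Fact p.Prime] {A : Type u} [CommRing A] {T : Tor p n A} {B : Type u} [CommRing B] [Algebra A B]

namespace Ch

variable (c : Ch T B)

theorem isLift : IsLift c.q := isLift_of_nilpotent p n c.TE.pn c.q c.hq c.kq

/-- `it T n` on two-forms modulo exact forms. -/
def _root_.K961.itQ {A : Type u} [CommRing A] (T : Tor p n A) : Q2 A →+ Om2 A :=
  QuotientAddGroup.lift _ (it T n) (by
    rintro _ ⟨η, rfl⟩
    exact iter_exact T n le_rfl η)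

theorem _root_.K961.itQ_cl2 {A : Type u} [CommRing A] (T : Tor p n A) (ω : Om2 A) : itQ T (cl2 ω) = it T n ω := rfl

/-- The value of the symbol trace on the chart. -/
def val : Tn B →+ Om2 c.A' :=
  (tr2 c.T'.fr c.TE.fr).comp ((itQ c.TE).comp (c.isLift.syL.comp (tmap (algebraMap B c.B'))))

theorem val_eq (z : Tn B) (y : Tn c.E) (h : tmap c.q y = tmap (algebraMap B c.B') z) :
    c.val z = tr2 c.T'.fr c.TE.fr (it c.TE n (sy y)) := by
  unfold val
  rw [AddMonoidHom.comp_apply, AddMonoidHom.comp_apply, AddMonoidHom.comp_apply, ← h, c.isLift.syL_tmap, itQ_cl2]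

theorem exists_lift (z : Tn B) : ∃ y : Tn c.E, tmap c.q y = tmap (algebraMap B c.B') z :=
  c.isLift.tmap_surjective _

end Ch

/-- The two-form `ω` is the symbol trace of `z`. -/
def IsTau (T : Tor p n A) (B : Type u) [CommRing B] [Algebra A B] (z : Tn B) (ω : Om2 A) : Prop :=
  ∃ c : Ch T B, omap2 (algebraMap A c.A') ω = c.val z

end K961
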