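import Groth.Agent.EtCoh.K961.Key
import Groth.Agent.EtCoh.K103.SmLift
import Groth.Agent.EtCoh.K103.TorEt
import Groth.Agent.EtCoh.K103.TrS
import Groth.Agent.EtCoh.K871.TrForm
import Mathlib.RingTheory.RingHom.Etale

/-!
# Existence of charts
-/

set_option autoImplicit false
set_option linter.unusedSectionVars false
universe u v w'

noncomputable section

open scoped TensorProduct

namespace K961

open KaehlerDifferential K611.Gam K611.Gam2 K611.Frame K611.Top K720.Sym K56.T4 K961.Inv

export K103.Tor (exists_tor_etale)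
export K103.TrS (tr2_S)
export K871.TrForm (trace_form)

/-- The étale part of a chart over a given principal open. -/
structure ChE {p n : ℕ} {A : Type u} [CommRing A] (_T : Tor p n A) (B : Type u) [CommRing B] [Algebra A B] (g : A)
    {A' : Type u} [CommRing A'] [Algebra A A'] (T' : Tor p n A') where
  E : Type u
  [cE : CommRing E]
  [aE : Algebra A' E]
  [fE : Module.Finite A' E]
  [rE : Module.Free A' E]
  [eE : Algebra.Etale A' E]
  TE : Tor p n E
  cptE : Cpt T' TE (algebraMap A' E)
  B' : Type u
  [cB' : CommRing B']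
  [aB' : Algebra B B']
  [lB' : IsLocalization.Away (algebraMap A B g) B']
  q : E →+* B'
  hq : Function.Surjective q
  kq : RingHom.ker q = Ideal.span {(p : E)}
  comm : ∀ a : A, q (algebraMap A' E (algebraMap A A' a)) = algebraMap B B' (algebraMap A B a)

attribute [instance] ChE.cE ChE.aE ChE.fE ChE.rE ChE.eE ChE.cB' ChE.aB' ChE.lB'

/-- The chart. -/
def ChE.toCh {p n : ℕ} {A : Type u} [CommRing A] {T : Tor p n A} {B : Type u} [CommRing B] [Algebra A B] {g : A}
    {A' : Type u} [CommRing A'] [Algebra A A'] {T' : Tor p n A'} (e : ChE T B g T') [IsLocalization.Away g A']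
    (hg : g ∈ nonZeroDivisors A) (h : Cpt T T' (algebraMap A A')) : Ch T B :=
  { g := g, hg := hg, A' := A', T' := T', cpt := h, E := e.E, TE := e.TE, cptE := e.cptE, B' := e.B', q := e.q,
    hq := e.hq, kq := e.kq, comm := e.comm }

/-- A finite cover `B` of `A/p`, free, smooth over `R/p`, étale where `g` is invertible. -/
structure Cov (p : ℕ) (R A B : Type u) [CommRing R] [CommRing A] [Algebra R A] [CommRing B] [Algebra R B] [Algebra A B]
    (g : A) : Prop where
  nil : ∃ n, (p : R) ^ n = 0
  pB : (p : B) = 0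
  nzd : ∀ a c : A, g * a = p * c → ∃ d, a = p * d
  bas : ∃ (m : ℕ) (β : Fin m → B), IsBas p (algebraMap A B) β
  sm : ∀ [Algebra (R ⧸ Ideal.span {(p : R)}) B] [IsScalarTower R (R ⧸ Ideal.span {(p : R)}) B],
    Algebra.Smooth (R ⧸ Ideal.span {(p : R)}) B
  unr : ∀ ω : Ω[B⁄A], algebraMap A B g • ω = 0

/-- Bases modulo `p` localize. -/
theorem IsBas.away {p : ℕ} {A B A' B' : Type*} [CommRing A] [CommRing B] [CommRing A'] [CommRing B']
    [Algebra A A'] [Algebra B B'] {j : A →+* B} (j' : A' →+* B')
    (hj : ∀ a, j' (algebraMap A A' a) = algebraMap B B' (j a)) (g : A)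
    [IsLocalization.Away g A'] [IsLocalization.Away (j g) B'] {ι : Type*} [Fintype ι] {β : ι → B}
    (hβ : IsBas p j β) : IsBas p j' (fun i => algebraMap B B' (β i)) where
  span y := by
    obtain ⟨⟨b, ⟨_, k, rfl⟩⟩, hb⟩ := IsLocalization.surj (Submonoid.powers (j g)) y
    obtain ⟨a, rfl⟩ := hβ.span b
    have hu : IsUnit (algebraMap A A' (g ^ k)) := IsLocalization.map_units A' (⟨_, k, rfl⟩ : Submonoid.powers g)
    obtain ⟨v, hv⟩ := hu.exists_left_inv
    refine ⟨fun i => v * algebraMap A A' (a i), ?_⟩
    change y * algebraMap B B' (j g ^ k) = _ at hb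
    have h1 : j' v * algebraMap B B' (j g ^ k) = 1 := by
      rw [← map_pow, ← hj, ← map_mul, hv, map_one]
    calc y = j' v * (y * algebraMap B B' (j g ^ k)) := by rw [mul_left_comm, h1, mul_one]
      _ = _ := by
        rw [hb, map_sum, Finset.mul_sum]
        refine Finset.sum_congr rfl fun i _ => ?_
        rw [map_mul, map_mul, hj, mul_assoc]
  ind a ha := by
    obtain ⟨⟨_, l, rfl⟩, hb⟩ := IsLocalization.exist_integer_multiples_of_finite (Submonoid.powers g) a
    choose c hc using hb
    have hc' : ∀ i, algebraMap A A' (c i) = algebraMap A A' (g ^ l) * a i := fun i => by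
      rw [hc i, Algebra.smul_def]
    have h1 : algebraMap B B' (∑ i, j (c i) * β i) = 0 := by
      rw [map_sum, ← mul_zero (j' (algebraMap A A' (g ^ l))), ← ha, Finset.mul_sum]
      refine Finset.sum_congr rfl fun i _ => ?_
      rw [map_mul, ← hj, hc', map_mul]
      ring
    obtain ⟨⟨_, k, rfl⟩, hk⟩ := (IsLocalization.map_eq_zero_iff (Submonoid.powers (j g)) B' _).1 h1
    have h3 : ∑ i, j (g ^ k * c i) * β i = 0 := by
      rw [← hk, Finset.mul_sum]
      refine Finset.sum_congr rfl fun i _ => ?_
      rw [map_mul, map_pow]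
      ring
    intro i
    obtain ⟨d, hd⟩ := hβ.ind _ h3 i
    have hu : IsUnit (algebraMap A A' (g ^ (k + l))) :=
      IsLocalization.map_units A' (⟨_, k + l, rfl⟩ : Submonoid.powers g)
    obtain ⟨v, hv⟩ := hu.exists_left_inv
    refine ⟨v * algebraMap A A' d, ?_⟩
    have h4 : algebraMap A A' (g ^ (k + l)) * a i = p * algebraMap A A' d := by
      rw [pow_add, map_mul, mul_assoc, ← hc' i, ← map_mul, hd, map_mul, map_natCast]
    calc a i = v * (algebraMap A A' (g ^ (k + l)) * a i) := by rw [← mul_assoc, hv, one_mul]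
      _ = _ := by rw [h4]; ring

/-- Annihilators in flat modules. -/
theorem flat_ann {A D : Type*} [CommRing A] [AddCommGroup D] [Module A D] [Module.Flat A D] (a b : A)
    (hab : a * b = 0) (h : ∀ x, a * x = 0 → ∃ y, x = b * y) (e : D) (he : a • e = 0) : ∃ d, e = b • d := by
  have hex : Function.Exact (LinearMap.mulLeft A b) (LinearMap.mulLeft A a) := by
    intro x
    constructor
    · intro hx
      obtain ⟨y, hy⟩ := h x hx
      exact ⟨y, hy.symm⟩
    · rintro ⟨y, rfl⟩
      change a * (b * y) = 0
      rw [← mul_assoc, hab, zero_mul]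
  have h2 := Module.Flat.lTensor_exact D hex
  obtain ⟨x, hx⟩ := (h2 (e ⊗ₜ 1)).1 (by
    rw [LinearMap.lTensor_tmul, LinearMap.mulLeft_apply, mul_one]
    have : e ⊗ₜ[A] a = (a • e) ⊗ₜ[A] (1 : A) := by
      rw [TensorProduct.smul_tmul, smul_eq_mul, mul_one]
    rw [this, he, TensorProduct.zero_tmul])
  refine ⟨TensorProduct.rid A D x, ?_⟩
  have h3 : ∀ z : D ⊗[A] A, TensorProduct.rid A D (LinearMap.lTensor D (LinearMap.mulLeft A b) z) =
      b • TensorProduct.rid A D z := by
    intro z
    induction z using TensorProduct.induction_on with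
    | zero => simp
    | tmul d c => simp [mul_smul]
    | add x y hx hy => rw [map_add, map_add, hx, hy, map_add, smul_add]
  rw [← h3, hx, TensorProduct.rid_tmul, one_smul]

section exist

variable {p n : ℕ} [hp : Fact p.Prime] {R A B : Type u} [CommRing R] [CommRing A] [Algebra R A] [Algebra.Smooth R A]
  [CommRing B] [Algebra R B] [Algebra A B] [IsScalarTower R A B] {g : A}

/-- The global smooth lift. -/
theorem Cov.exists_global (T : Tor p n A) (hB : Cov p R A B g) :
    ∃ (D : Type u) (_ : CommRing D) (_ : Algebra R D) (_ : Algebra A D) (_ : IsScalarTower R A D)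
      (π : D →ₐ[A] B) (m : ℕ) (_ : Module.Basis (Fin m) A D),
      K103.SmLift.IsLift (Ideal.span {(p : R)}) A B D π ∧ RingHom.ker π = Ideal.span {(p : D)} := by
  have hI : IsNilpotent (Ideal.span {(p : R)}) := by
    obtain ⟨k, hk⟩ := hB.nil
    refine ⟨k, ?_⟩
    rw [Ideal.span_singleton_pow, hk]
    simp
  have hpB : ∀ (S : Type u) [CommRing S] [Algebra S B], Ideal.span {(p : S)} ≤ RingHom.ker (algebraMap S B) := by
    intro S _ _
    rw [Ideal.span_singleton_le_iff_mem, RingHom.mem_ker, map_natCast, hB.pB]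
  have eI : (Ideal.span {(p : R)}).map (algebraMap R A) = Ideal.span {(p : A)} := by
    rw [Ideal.map_span, Set.image_singleton, map_natCast]
  let _ : Algebra (R ⧸ Ideal.span {(p : R)}) B := (Ideal.Quotient.lift _ (algebraMap R B) (hpB R)).toAlgebra
  have _ : IsScalarTower R (R ⧸ Ideal.span {(p : R)}) B := IsScalarTower.of_algebraMap_eq fun r => rfl
  have _ := hB.sm
  let _ : Algebra (A ⧸ (Ideal.span {(p : R)}).map (algebraMap R A)) B :=
    (Ideal.Quotient.lift _ (algebraMap A B) (by rw [eI]; exact hpB A)).toAlgebra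
  have hst : IsScalarTower A (A ⧸ (Ideal.span {(p : R)}).map (algebraMap R A)) B :=
    IsScalarTower.of_algebraMap_eq fun r => rfl
  obtain ⟨m, β, hβ⟩ := hB.bas
  classical
  have hfin : Module.Finite A B := by
    refine ⟨⟨Finset.univ.image β, ?_⟩⟩
    rw [eq_top_iff]
    rintro y -
    obtain ⟨a, rfl⟩ := hβ.span y
    refine Submodule.sum_mem _ fun i _ => ?_
    rw [← Algebra.smul_def]
    exact Submodule.smul_mem _ _ (Submodule.subset_span (by simp))
  have hflat : Module.Flat (A ⧸ (Ideal.span {(p : R)}).map (algebraMap R A)) B := by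
    have hli : LinearIndependent (A ⧸ (Ideal.span {(p : R)}).map (algebraMap R A)) β := by
      rw [Fintype.linearIndependent_iff]
      intro a ha i
      choose c hc using fun i => Ideal.Quotient.mk_surjective (a i)
      obtain ⟨d, hd⟩ := hβ.ind c (by
        rw [← ha]
        refine Finset.sum_congr rfl fun i _ => ?_
        rw [← hc, Algebra.smul_def]
        rfl) i
      rw [← hc, hd, Ideal.Quotient.eq_zero_iff_mem, eI, Ideal.mem_span_singleton]
      exact dvd_mul_right _ _
    have hsp : ⊤ ≤ Submodule.span (A ⧸ (Ideal.span {(p : R)}).map (algebraMap R A)) (Set.range β) := by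
      rintro y -
      obtain ⟨a, rfl⟩ := hβ.span y
      refine Submodule.sum_mem _ fun i _ => ?_
      have : algebraMap A B (a i) * β i = (Ideal.Quotient.mk _ (a i) :
          A ⧸ (Ideal.span {(p : R)}).map (algebraMap R A)) • β i := by
        rw [Algebra.smul_def]
        rfl
      rw [this]
      exact Submodule.smul_mem _ _ (Submodule.subset_span ⟨i, rfl⟩)
    have := Module.Free.of_basis (Module.Basis.mk hli hsp)
    infer_instance
  obtain ⟨D, _, _, _, _, π, hD⟩ := K103.SmLift.exists_lift (Ideal.span {(p : R)}) hI A B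
  have hk : RingHom.ker π = Ideal.span {(p : D)} := by
    rw [hD.ker, eI, Ideal.map_span, Set.image_singleton, map_natCast]
  choose b₀ hb₀ using fun i => hD.surj (β i)
  have hpn : (p : D) ^ n = 0 := by
    rw [← map_natCast (algebraMap A D), ← map_pow, T.pn, map_zero]
  obtain ⟨b, hb⟩ := exists_basis (A := A) (E := D) T.pn hpn (by
    intro i hi e he
    have hfl := hD.flat
    obtain ⟨d, hd⟩ := flat_ann (A := A) (D := D) ((p : A) ^ i) ((p : A) ^ (n - i)) (by
      rw [← pow_add, Nat.add_sub_cancel' hi, T.pn]) (T.flat i hi) e (by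
        rw [Algebra.smul_def, map_pow, map_natCast, he])
    exact ⟨d, by rw [hd, Algebra.smul_def, map_pow, map_natCast]⟩) (π : D →+* B) hk b₀ (by
      have e1 : ((π : D →+* B).comp (algebraMap A D)) = algebraMap A B := RingHom.ext fun a => π.commutes a
      rw [e1]
      have e2 : (fun i => (π : D →+* B) (b₀ i)) = β := funext hb₀
      rw [e2]
      exact hβ)
  exact ⟨D, _, _, _, ‹_›, π, m, b, hD, hk⟩

/-- Elements regular modulo `p` are regular. -/
theorem mem_nzd (T : Tor p n A) {g : A} (hg : ∀ a c : A, g * a = p * c → ∃ d, a = p * d) : g ∈ nonZeroDivisors A := by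
  have key : ∀ k, k ≤ n → ∀ a, g * a = 0 → ∃ b, a = (p : A) ^ k * b := by
    intro k
    induction k with
    | zero => exact fun _ a _ => ⟨a, by rw [pow_zero, one_mul]⟩
    | succ k ih =>
      intro hk a ha
      obtain ⟨b, rfl⟩ := ih (by omega) a ha
      have h1 : (p : A) ^ k * (g * b) = 0 := by rw [← ha]; ring
      obtain ⟨e, he⟩ := T.flat k (by omega) _ h1
      obtain ⟨d, hd⟩ := hg b ((p : A) ^ (n - k - 1) * e) (by
        rw [he, ← mul_assoc, ← pow_succ']
        congr 2
        omega)
      exact ⟨d, by rw [hd, pow_succ, mul_assoc]⟩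
  rw [mem_nonZeroDivisors_iff_right]
  intro a ha
  obtain ⟨b, hb⟩ := key n le_rfl a (by rw [mul_comm, ha])
  rw [hb, T.pn, zero_mul]

/-- Localization of a surjection with kernel `(p)`. -/
theorem away_map_spec {p : ℕ} {D B E B' : Type*} [CommRing D] [CommRing B] [CommRing E] [CommRing B'] [Algebra D E]
    [Algebra B B'] (π : D →+* B) (hπ : Function.Surjective π) (kπ : RingHom.ker π = Ideal.span {(p : D)}) (g : D)
    [IsLocalization.Away g E] [IsLocalization.Away (π g) B'] (q : E →+* B')
    (hq : ∀ d, q (algebraMap D E d) = algebraMap B B' (π d)) :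
    Function.Surjective q ∧ RingHom.ker q = Ideal.span {(p : E)} := by
  constructor
  · intro y
    obtain ⟨⟨b, ⟨_, n, rfl⟩⟩, hb⟩ := IsLocalization.surj (Submonoid.powers (π g)) y
    obtain ⟨b', rfl⟩ := hπ b
    refine ⟨IsLocalization.mk' E b' (⟨g ^ n, n, rfl⟩ : Submonoid.powers g), ?_⟩
    have hu : IsUnit (algebraMap B B' (π g ^ n)) := IsLocalization.map_units B' (⟨_, n, rfl⟩ : Submonoid.powers (π g))
    refine hu.mul_right_cancel ?_
    rw [hb]
    have : algebraMap B B' (π g ^ n) = q (algebraMap D E (g ^ n)) := by rw [hq, map_pow π]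
    rw [this, ← map_mul]
    have h2 : IsLocalization.mk' E b' (⟨g ^ n, n, rfl⟩ : Submonoid.powers g) * algebraMap D E (g ^ n) = algebraMap D E b' :=
      IsLocalization.mk'_spec E b' (⟨g ^ n, n, rfl⟩ : Submonoid.powers g)
    rw [h2, hq]
  · ext y
    constructor
    · intro hy
      obtain ⟨b, ⟨_, n, rfl⟩, rfl⟩ := IsLocalization.exists_mk'_eq (Submonoid.powers g) y
      have h1 : q (algebraMap D E b) = 0 := by
        have h2 : IsLocalization.mk' E b (⟨g ^ n, n, rfl⟩ : Submonoid.powers g) * algebraMap D E (g ^ n) = algebraMap D E b :=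
          IsLocalization.mk'_spec E b (⟨g ^ n, n, rfl⟩ : Submonoid.powers g)
        rw [← h2, map_mul]
        rw [show q (IsLocalization.mk' E b (⟨g ^ n, n, rfl⟩ : Submonoid.powers g)) = 0 from hy, zero_mul]
      rw [hq] at h1
      obtain ⟨⟨_, m, rfl⟩, hm⟩ := (IsLocalization.map_eq_zero_iff (Submonoid.powers (π g)) B' _).mp h1
      have h3 : g ^ m * b ∈ RingHom.ker π := by
        rw [RingHom.mem_ker, map_mul, map_pow]
        exact hm
      rw [kπ, Ideal.mem_span_singleton] at h3
      obtain ⟨c, hc⟩ := h3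
      rw [IsLocalization.mk'_mem_iff]
      have h4 : algebraMap D E (g ^ m * b) ∈ Ideal.span {(p : E)} := by
        rw [hc, map_mul, map_natCast, Ideal.mem_span_singleton]
        exact dvd_mul_right _ _
      rw [map_mul] at h4
      exact (Ideal.unit_mul_mem_iff_mem _ (IsLocalization.map_units E (⟨_, m, rfl⟩ : Submonoid.powers g))).mp h4
    · intro hy
      rw [Ideal.mem_span_singleton] at hy
      obtain ⟨c, rfl⟩ := hy
      have h5 : (p : D) ∈ RingHom.ker π := by
        rw [kπ]
        exact Ideal.mem_span_singleton_self _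
      rw [RingHom.mem_ker] at h5
      rw [RingHom.mem_ker, map_mul]
      have h6 := hq p
      rw [h5, map_zero, map_natCast] at h6
      rw [h6, zero_mul]

/-- The localization at an element killing the differentials is unramified. -/
theorem unr_away {A B B' : Type u} [CommRing A] [CommRing B] [CommRing B'] [Algebra A B] [Algebra B B'] [Algebra A B']
    [IsScalarTower A B B'] (g : B) [IsLocalization.Away g B'] (h : ∀ ω : Ω[B⁄A], g • ω = 0) :
    Algebra.FormallyUnramified A B' := by
  have : Algebra.FormallyEtale B B' := Algebra.FormallyEtale.of_isLocalization (Submonoid.powers g)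
  rw [Algebra.formallyUnramified_iff]
  have hs : Subsingleton (B' ⊗[B] Ω[B⁄A]) := by
    refine ⟨fun x y => ?_⟩
    have key : ∀ z : B' ⊗[B] Ω[B⁄A], z = 0 := by
      intro z
      induction z using TensorProduct.induction_on with
      | zero => rfl
      | add x y hx hy => rw [hx, hy, add_zero]
      | tmul b ω =>
        obtain ⟨v, hv⟩ := (IsLocalization.Away.algebraMap_isUnit (S := B') g).exists_left_inv
        have : b = g • (b * v) := by
          rw [Algebra.smul_def, mul_left_comm, mul_comm _ v, hv, mul_one]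
        rw [this, TensorProduct.smul_tmul, h, TensorProduct.tmul_zero]
    rw [key x, key y]
  exact (KaehlerDifferential.tensorKaehlerEquivOfFormallyEtale A B B').symm.toEquiv.subsingleton

omit hp in
/-- Two-forms lift along surjections. -/
theorem omap2_surjective {C D : Type u} [CommRing C] [CommRing D] (π : C →+* D) (hπ : Function.Surjective π) :
    Function.Surjective (omap2 π) := by
  have h1 : ∀ x : Ω[D⁄ℤ], ∃ y : Ω[C⁄ℤ], omap π y = x := by
    intro x
    have hx : x ∈ Submodule.span D (Set.range (KaehlerDifferential.D ℤ D)) := by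
      rw [KaehlerDifferential.span_range_derivation]
      trivial
    induction hx using Submodule.span_induction with
    | mem x h =>
      obtain ⟨d, rfl⟩ := h
      obtain ⟨c, rfl⟩ := hπ d
      exact ⟨KaehlerDifferential.D ℤ C c, omap_D π c⟩
    | zero => exact ⟨0, map_zero _⟩
    | add x y _ _ hx hy =>
      obtain ⟨x', rfl⟩ := hx
      obtain ⟨y', rfl⟩ := hy
      exact ⟨x' + y', map_add _ _ _⟩
    | smul a x _ hx =>
      obtain ⟨x', rfl⟩ := hx
      obtain ⟨c, rfl⟩ := hπ a
      exact ⟨c • x', omap_smul π c x'⟩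
  intro ω
  induction ω using om2_induction with
  | h0 => exact ⟨0, map_zero _⟩
  | hadd x y hx hy =>
    obtain ⟨x', rfl⟩ := hx
    obtain ⟨y', rfl⟩ := hy
    exact ⟨x' + y', map_add _ _ _⟩
  | hw x y =>
    obtain ⟨x', rfl⟩ := h1 x
    obtain ⟨y', rfl⟩ := h1 y
    exact ⟨w x' y', omap2_w π x' y'⟩

/-- Charts exist over a given principal open, and the values of the symbol trace are integral. -/
theorem Cov.exists_chE' (hn : 0 < n) (T : Tor p n A) (hB : Cov p R A B g) (hg : g ∈ nonZeroDivisors A) {A' : Type u}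
    [CommRing A'] [Algebra A A'] [IsLocalization.Away g A'] (T' : Tor p n A') (hT' : Cpt T T' (algebraMap A A')) :
    ∃ e : ChE T B g T', (∀ z, ∃ ω, omap2 (algebraMap A A') ω = (e.toCh hg hT').val z) ∧
      ∀ η : Om2 B, ∃ (η' : Om2 e.E) (ω : Om2 A), omap2 e.q η' = omap2 (algebraMap B e.B') η ∧
        omap2 (algebraMap A A') ω = tr2 T'.fr e.TE.fr η' := by
  obtain ⟨D, _, _, _, _, π, m, b, hD, kπ⟩ := hB.exists_global T
  obtain ⟨m', β, hβ⟩ := hB.bas
  have _ := Module.Finite.of_basis b
  have _ := Module.Free.of_basis b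
  have _ := hD.smooth
  let E := Localization.Away (algebraMap A D g)
  let B' := Localization.Away (algebraMap A B g)
  have _ : Algebra.Etale A A' := Algebra.Etale.of_isLocalizationAway g
  let q : E →+* B' := IsLocalization.Away.lift (S := E) (g := (algebraMap B B').comp (π : D →+* B))
    (algebraMap A D g) (by
      change IsUnit (algebraMap B B' (π (algebraMap A D g)))
      rw [π.commutes]
      exact IsLocalization.Away.algebraMap_isUnit _)
  have hq : ∀ d, q (algebraMap D E d) = algebraMap B B' (π d) := fun d => IsLocalization.Away.lift_eq _ _ _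
  have _ : IsLocalization.Away ((π : D →+* B) (algebraMap A D g)) B' := by
    change IsLocalization.Away (π (algebraMap A D g)) B'
    rw [π.commutes]
    infer_instance
  obtain ⟨q1, q2⟩ := away_map_spec (π : D →+* B) hD.surj kπ (algebraMap A D g) q hq
  have _ : Algebra.FormallyUnramified A B' := unr_away (algebraMap A B g) hB.unr
  have _ : IsLocalization.Away (π (algebraMap A D g)) B' := ‹_›
  have hetE : Algebra.Etale A E := hD.etale_away (by
    obtain ⟨k, hk⟩ := hB.nil
    refine ⟨k, ?_⟩
    rw [Ideal.span_singleton_pow, hk]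
    simp) (algebraMap A D g) E B'
  obtain ⟨TE, hTE⟩ := exists_tor_etale T (algebraMap A E) (RingHom.etale_algebraMap.2 inferInstance)
  let f : A' →+* E := IsLocalization.Away.lift (S := A') (g := algebraMap A E) g (by
    rw [IsScalarTower.algebraMap_apply A D E]
    exact IsLocalization.Away.algebraMap_isUnit _)
  have hf : ∀ a, f (algebraMap A A' a) = algebraMap A E a := fun a => IsLocalization.Away.lift_eq _ _ _
  let _ : Algebra A' E := f.toAlgebra
  have _ : IsScalarTower A A' E := IsScalarTower.of_algebraMap_eq fun a => (hf a).symm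
  have _ : Algebra.Etale A' E := Algebra.Etale.of_restrictScalars A A' E
  have hc : Cpt T' TE (algebraMap A' E) := by
    refine ⟨fun i => ?_, fun a => ?_⟩
    · rw [← hT'.x, ← IsScalarTower.algebraMap_apply, hTE.x]
    · have : (algebraMap A' E).comp T'.φ = TE.φ.comp (algebraMap A' E) := by
        refine IsLocalization.ringHom_ext (Submonoid.powers g) (RingHom.ext fun a => ?_)
        change algebraMap A' E (T'.φ (algebraMap A A' a)) = TE.φ (algebraMap A' E (algebraMap A A' a))
        rw [← hT'.φ, ← IsScalarTower.algebraMap_apply, ← IsScalarTower.algebraMap_apply, hTE.φ]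
      exact DFunLike.congr_fun this a
  have hcomm : ∀ a : A, q (algebraMap A' E (algebraMap A A' a)) = algebraMap B B' (algebraMap A B a) := by
    intro a
    rw [← IsScalarTower.algebraMap_apply, IsScalarTower.algebraMap_apply A D E, hq, π.commutes]
  have hβ' : IsBas p (q.comp (algebraMap A' E)) (fun i => algebraMap B B' (β i)) :=
    hβ.away _ hcomm g
  choose β₀ hβ₀ using fun i => q1 (algebraMap B B' (β i))
  obtain ⟨bE, -⟩ := exists_basis (A := A') (E := E) T'.pn TE.pn TE.flat q q2 β₀ (by simpa only [hβ₀] using hβ')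
  have _ := Module.Finite.of_basis bE
  have _ := Module.Free.of_basis bE
  let e : ChE T B g T' :=
    { E := E, TE := TE, cptE := hc, B' := B', q := q, hq := q1, kq := q2, comm := hcomm }
  refine ⟨e, fun z => ?_, fun η => ?_⟩
  rotate_left
  · obtain ⟨ηD, rfl⟩ := omap2_surjective (π : D →+* B) hD.surj η
    obtain ⟨ω, hω⟩ := trace_form R (B := D) T.fr g (A' := A') (B' := E) T'.fr (fun i => (hT'.x i).symm)
      TE.fr (fun i => (hc.x i).symm) ηD
    refine ⟨omap2 (algebraMap D E) ηD, ω, ?_, hω⟩
    change omap2 q (omap2 (algebraMap D E) ηD) = omap2 (algebraMap B B') (omap2 (π : D →+* B) ηD)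
    rw [← AddMonoidHom.comp_apply, ← AddMonoidHom.comp_apply, ← omap2_comp, ← omap2_comp]
    congr 2
    exact RingHom.ext hq
  let c : Ch T B := e.toCh hg hT'
  have hlπ : IsLift (π : D →+* B) := isLift_of_nilpotent p n (by
    rw [← map_natCast (algebraMap A D), ← map_pow, T.pn, map_zero]) _ hD.surj kπ
  obtain ⟨y, hy⟩ := hlπ.tmap_surjective z
  have hv : c.val z = tr2 T'.fr TE.fr (it TE n (sy (tmap (algebraMap D E) y))) := by
    refine c.val_eq z _ ?_
    change tmap q (tmap (algebraMap D E) y) = tmap (algebraMap B B') z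
    rw [← hy, ← AddMonoidHom.comp_apply, ← AddMonoidHom.comp_apply, ← tmap_comp, ← tmap_comp]
    congr 2
    exact RingHom.ext hq
  have hit : ∀ (k : ℕ) (η : Om2 E), tr2 T'.fr TE.fr (it TE k η) = it T' k (tr2 T'.fr TE.fr η) := by
    intro k η
    induction k with
    | zero => rfl
    | succ k ih => rw [it_succ, it_succ, tr2_S T' TE hc, ih]
  obtain ⟨ω, hω⟩ := trace_form R (B := D) T.fr g (A' := A') (B' := E) T'.fr (fun i => (hT'.x i).symm)
    TE.fr (fun i => (hc.x i).symm) (sy y)
  refine ⟨it T n ω, ?_⟩
  rw [hv, hit, ← omap2_sy, ← hω]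
  exact it_nat T T' _ hT' n ω

/-- Charts exist over a given principal open, and the values of the symbol trace are integral. -/
theorem Cov.exists_chE (hn : 0 < n) (T : Tor p n A) (hB : Cov p R A B g) (hg : g ∈ nonZeroDivisors A) {A' : Type u}
    [CommRing A'] [Algebra A A'] [IsLocalization.Away g A'] (T' : Tor p n A') (hT' : Cpt T T' (algebraMap A A')) :
    ∃ e : ChE T B g T', ∀ z, ∃ ω, omap2 (algebraMap A A') ω = (e.toCh hg hT').val z := by
  obtain ⟨e, he, -⟩ := hB.exists_chE' hn T hg T' hT'
  exact ⟨e, he⟩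

/-- Charts exist, and the values of the symbol trace are integral. -/
theorem Cov.exists_ch (hn : 0 < n) (T : Tor p n A) (hB : Cov p R A B g) :
    ∃ c : Ch T B, c.g = g ∧ ∀ z, ∃ ω, omap2 (algebraMap A c.A') ω = c.val z := by
  have hg : g ∈ nonZeroDivisors A := mem_nzd T hB.nzd
  have _ : Algebra.Etale A (Localization.Away g) := Algebra.Etale.of_isLocalizationAway g
  obtain ⟨T', hT'⟩ := exists_tor_etale T (algebraMap A (Localization.Away g))
    (RingHom.etale_algebraMap.2 inferInstance)
  obtain ⟨e, he⟩ := hB.exists_chE hn T hg T' hT'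
  exact ⟨e.toCh hg hT', rfl, he⟩

end exist

end K961
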