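import Groth.Agent.EtCoh.K961.Chart
import Mathlib.RingTheory.Unramified.Basic
import Mathlib.RingTheory.Smooth.Basic

/-!
# Comparison of étale lifts of finite covers

`IsBas p j β`: `β` is a basis of `B` over `A/p` (`j : A → B`). `key`: the value of the symbol trace is compatible with
base change of étale covers and independent of the étale lift.
-/

set_option autoImplicit false
set_option linter.unusedSectionVars false
universe u v w'

noncomputable section

namespace K961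

open KaehlerDifferential K611.Gam K611.Gam2 K611.Frame K611.Top K720.Sym K56.T4 K961.Inv

/-- `β` is a basis of `B` over `A/p`. -/
structure IsBas (p : ℕ) {A B : Type*} [CommRing A] [CommRing B] (j : A →+* B) {ι : Type*} [Fintype ι] (β : ι → B) :
    Prop where
  span : ∀ y, ∃ a : ι → A, y = ∑ i, j (a i) * β i
  ind : ∀ a : ι → A, ∑ i, j (a i) * β i = 0 → ∀ i, ∃ c, a i = p * c

section basis

variable {p n : ℕ} {A E B : Type*} [CommRing A] [CommRing E] [CommRing B] [Algebra A E]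
  {ι : Type*} [Fintype ι]

/-- Lifts of a basis modulo `p` form a basis. -/
theorem exists_basis (hA : (p : A) ^ n = 0) (hE : (p : E) ^ n = 0)
    (hflat : ∀ i ≤ n, ∀ e : E, (p : E) ^ i * e = 0 → ∃ b, e = (p : E) ^ (n - i) * b)
    (q : E →+* B) (kq : RingHom.ker q = Ideal.span {(p : E)}) (β : ι → E)
    (hβ : IsBas p (q.comp (algebraMap A E)) (fun i => q (β i))) :
    ∃ b : Module.Basis ι A E, ∀ i, b i = β i := by
  have hsp : ∀ (k : ℕ) (e : E), ∃ (a : ι → A) (e' : E), e = ∑ i, a i • β i + (p : E) ^ k * e' := by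
    intro k
    induction k with
    | zero => exact fun e => ⟨0, e, by simp⟩
    | succ k ih =>
      intro e
      obtain ⟨a, e', h⟩ := ih e
      obtain ⟨a', h'⟩ := hβ.span (q e')
      have h1 : e' - ∑ i, a' i • β i ∈ RingHom.ker q := by
        rw [RingHom.mem_ker, map_sub, h', map_sum, sub_eq_zero]
        refine Finset.sum_congr rfl fun i _ => ?_
        rw [Algebra.smul_def, map_mul]
        rfl
      rw [kq, Ideal.mem_span_singleton] at h1
      obtain ⟨e'', h2⟩ := h1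
      refine ⟨fun i => a i + (p : A) ^ k * a' i, e'', ?_⟩
      have h3 : e' = ∑ i, a' i • β i + (p : E) * e'' := by rw [← h2]; ring
      rw [h]
      conv_lhs => rw [h3]
      rw [mul_add, Finset.mul_sum]
      have h4 : ∀ i, (p : E) ^ k * a' i • β i = ((p : A) ^ k * a' i) • β i := by
        intro i
        rw [Algebra.smul_def, Algebra.smul_def, map_mul, map_pow, map_natCast, mul_assoc]
      simp only [h4, add_smul, Finset.sum_add_distrib]
      ring
  have hind : ∀ (k : ℕ), k ≤ n → ∀ a : ι → A, ∑ i, a i • β i = 0 → ∀ i, ∃ c, a i = (p : A) ^ k * c := by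
    intro k
    induction k with
    | zero => exact fun _ a _ i => ⟨a i, by rw [pow_zero, one_mul]⟩
    | succ k ih =>
      intro hk a ha
      choose c hc using ih (by omega) a ha
      have h1 : (p : E) ^ k * ∑ i, c i • β i = 0 := by
        rw [← ha, Finset.mul_sum]
        refine Finset.sum_congr rfl fun i _ => ?_
        rw [hc i, Algebra.smul_def, Algebra.smul_def, map_mul, map_pow, map_natCast, mul_assoc]
      obtain ⟨e, he⟩ := hflat k (by omega) _ h1
      have h2 : ∑ i, (q.comp (algebraMap A E)) (c i) * q (β i) = 0 := by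
        have h3 : q (∑ i, c i • β i) = 0 := by
          rw [he]
          have h4 : (p : E) ^ (n - k) * e ∈ RingHom.ker q := by
            rw [kq, Ideal.mem_span_singleton]
            exact Dvd.dvd.mul_right (dvd_pow_self _ (by omega)) _
          exact h4
        rw [← h3, map_sum]
        refine Finset.sum_congr rfl fun i _ => ?_
        rw [Algebra.smul_def, map_mul]
        rfl
      intro i
      obtain ⟨d, hd⟩ := hβ.ind c h2 i
      exact ⟨d, by rw [hc i, hd, pow_succ, mul_assoc]⟩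
  have hli : LinearIndependent A β := by
    rw [Fintype.linearIndependent_iff]
    intro a ha i
    obtain ⟨c, hc⟩ := hind n le_rfl a ha i
    rw [hc, hA, zero_mul]
  have hs : ⊤ ≤ Submodule.span A (Set.range β) := by
    rintro e -
    obtain ⟨a, e', h⟩ := hsp n e
    rw [hE, zero_mul, add_zero] at h
    rw [h]
    exact Submodule.sum_mem _ fun i _ => Submodule.smul_mem _ _ (Submodule.subset_span ⟨i, rfl⟩)
  exact ⟨Module.Basis.mk hli hs, fun i => Module.Basis.mk_apply hli hs i⟩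

end basis

section trace

variable {A₁ A₂ E₁ E₂ : Type*} [CommRing A₁] [CommRing A₂] [CommRing E₁] [CommRing E₂] [Algebra A₁ E₁] [Algebra A₂ E₂]
  (f : A₁ →+* A₂) (H : E₁ →+* E₂) (hH : ∀ a, H (algebraMap A₁ E₁ a) = algebraMap A₂ E₂ (f a))
  {ι : Type*} [Fintype ι] (b₁ : Module.Basis ι A₁ E₁) (b₂ : Module.Basis ι A₂ E₂) (hb : ∀ i, H (b₁ i) = b₂ i)

include hH hb in
theorem repr_map (x : E₁) (i : ι) : b₂.repr (H x) i = f (b₁.repr x i) := by
  classical
  have h1 : H x = ∑ j, f (b₁.repr x j) • b₂ j := by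
    conv_lhs => rw [← b₁.sum_repr x]
    rw [map_sum]
    refine Finset.sum_congr rfl fun j _ => ?_
    rw [Algebra.smul_def, Algebra.smul_def, map_mul, hH, hb]
  rw [h1, b₂.repr_sum_self]

include hH hb in
theorem trace_map (x : E₁) : Algebra.trace A₂ E₂ (H x) = f (Algebra.trace A₁ E₁ x) := by
  classical
  rw [Algebra.trace_eq_matrix_trace b₂, Algebra.trace_eq_matrix_trace b₁, Matrix.trace, Matrix.trace, map_sum]
  refine Finset.sum_congr rfl fun i _ => ?_
  rw [Matrix.diag_apply, Matrix.diag_apply, Algebra.leftMulMatrix_eq_repr_mul, Algebra.leftMulMatrix_eq_repr_mul,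
    ← repr_map f H hH b₁ b₂ hb, map_mul H x (b₁ i), hb]

end trace

section key

variable {p n n' : ℕ} [hp : Fact p.Prime]

section nat

variable {A A' : Type u} [CommRing A] [CommRing A'] (T : Tor p n A) (T' : Tor p n' A') (f : A →+* A')
    (h : Cpt T T' f)

include h

theorem tc_nat (a : A) : T'.tc (f a) = f (T.tc a) := by
  induction a using T.elem_induction with
  | h0 => rw [map_zero, T'.tc_zero, T.tc_zero, map_zero]
  | hadd a b ha hb => rw [map_add, T'.tc_add, ha, hb, T.tc_add, map_add]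
  | h a i j hi hj =>
    rw [map_mul, map_mul, map_pow, map_pow, h.x, h.x, h.φ, T'.tc_phi_mon _ hi hj, T.tc_phi_mon _ hi hj]
    split_ifs
    · rfl
    · rw [map_zero]

theorem omap2_vol : omap2 f (vol T.fr) = vol T'.fr := by
  unfold vol
  rw [omap2_w, omap_D, omap_D, h.x, h.x]

theorem S_nat (ω : Om2 A) : T'.S (omap2 f ω) = omap2 f (T.S ω) := by
  obtain ⟨a, rfl⟩ := T.exists_smul_vol ω
  rw [omap2_smul, omap2_vol T T' f h, T'.S_smul_vol, T.S_smul_vol, omap2_smul, omap2_vol T T' f h, tc_nat T T' f h]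

theorem it_nat (k : ℕ) (ω : Om2 A) : omap2 f (it T k ω) = it T' k (omap2 f ω) := by
  induction k with
  | zero => rfl
  | succ k ih => rw [it_succ, it_succ, ← S_nat T T' f h, ih]

theorem det_nat (ω : Om2 A) : det T'.fr (omap2 f ω) = f (det T.fr ω) := by
  conv_lhs => rw [eq_det T.fr ω]
  rw [omap2_smul, omap2_vol T T' f h, map_smul, det_vol, smul_eq_mul, mul_one]

end nat

variable {A₁ A₂ E₁ E₂ : Type u} [CommRing A₁] [CommRing A₂] [CommRing E₁] [CommRing E₂]
  [Algebra A₁ E₁] [Algebra A₂ E₂]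

/-- Two compatible maps out of an étale algebra. -/
theorem cpt_of_etale {T₁ : Tor p n A₁} {T₂ : Tor p n' A₂} {f : A₁ →+* A₂} (hf : Cpt T₁ T₂ f)
    [Algebra.FormallyUnramified A₁ E₁] {TE₁ : Tor p n E₁} (h₁ : Cpt T₁ TE₁ (algebraMap A₁ E₁))
    {TE₂ : Tor p n' E₂} (h₂ : Cpt T₂ TE₂ (algebraMap A₂ E₂)) (H : E₁ →+* E₂)
    (hH : ∀ a, H (algebraMap A₁ E₁ a) = algebraMap A₂ E₂ (f a)) : Cpt TE₁ TE₂ H where
  x i := by rw [← h₁.x, hH, hf.x, h₂.x]
  φ := by
    let _ : Algebra A₁ E₂ := ((H.comp TE₁.φ).comp (algebraMap A₁ E₁)).toAlgebra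
    let g₁ : E₁ →ₐ[A₁] E₂ := { (H.comp TE₁.φ) with commutes' := fun a => rfl }
    let g₂ : E₁ →ₐ[A₁] E₂ := { (TE₂.φ.comp H) with
      commutes' := fun a => by
        change TE₂.φ (H (algebraMap A₁ E₁ a)) = H (TE₁.φ (algebraMap A₁ E₁ a))
        rw [hH, ← h₂.φ, ← hf.φ, ← hH, ← h₁.φ] }
    have hI : IsNilpotent (Ideal.span {(p : E₂)}) := by
      refine ⟨n', ?_⟩
      rw [Ideal.span_singleton_pow, TE₂.pn]
      simp
    have h := Algebra.FormallyUnramified.lift_unique (R := A₁) (A := E₁) (Ideal.span {(p : E₂)}) hI g₁ g₂ (by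
      ext x
      change Ideal.Quotient.mk _ (H (TE₁.φ x)) = Ideal.Quotient.mk _ (TE₂.φ (H x))
      rw [Ideal.Quotient.eq, Ideal.mem_span_singleton]
      obtain ⟨b, hb⟩ := TE₁.hφ x
      obtain ⟨b', hb'⟩ := TE₂.hφ (H x)
      refine ⟨H b - b', ?_⟩
      rw [hb, hb', map_add, map_mul, map_pow, map_natCast]
      ring)
    intro a
    exact DFunLike.congr_fun h a

/-- The comparison theorem. -/
theorem key {T₁ : Tor p n A₁} {T₂ : Tor p n' A₂} {f : A₁ →+* A₂} (hf : Cpt T₁ T₂ f)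
    [Algebra.Etale A₁ E₁] {TE₁ : Tor p n E₁} (h₁ : Cpt T₁ TE₁ (algebraMap A₁ E₁))
    {TE₂ : Tor p n' E₂} (h₂ : Cpt T₂ TE₂ (algebraMap A₂ E₂)) {B₁ B₂ : Type u} [CommRing B₁] [CommRing B₂]
    (q₁ : E₁ →+* B₁) (hq₁ : Function.Surjective q₁) (kq₁ : RingHom.ker q₁ = Ideal.span {(p : E₁)})
    (q₂ : E₂ →+* B₂) (hq₂ : Function.Surjective q₂) (kq₂ : RingHom.ker q₂ = Ideal.span {(p : E₂)})
    (h : B₁ →+* B₂) (hh : ∀ a, h (q₁ (algebraMap A₁ E₁ a)) = q₂ (algebraMap A₂ E₂ (f a)))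
    {ι : Type v} [Fintype ι] (β : ι → B₁) (hβ₁ : IsBas p (q₁.comp (algebraMap A₁ E₁)) β)
    (hβ₂ : IsBas p (q₂.comp (algebraMap A₂ E₂)) (fun i => h (β i)))
    (k : ℕ) (hk : n' ≤ k) (y₁ : Tn E₁) (y₂ : Tn E₂) (hy : tmap q₂ y₂ = tmap h (tmap q₁ y₁)) :
    omap2 f (tr2 T₁.fr TE₁.fr (it TE₁ k (sy y₁))) = tr2 T₂.fr TE₂.fr (it TE₂ k (sy y₂)) := by
  -- the lift
  obtain ⟨H, hH, hHq⟩ : ∃ H : E₁ →+* E₂, (∀ a, H (algebraMap A₁ E₁ a) = algebraMap A₂ E₂ (f a)) ∧
      ∀ e, q₂ (H e) = h (q₁ e) := by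
    let _ : Algebra A₁ E₂ := ((algebraMap A₂ E₂).comp f).toAlgebra
    let _ : Algebra A₁ B₂ := (q₂.comp ((algebraMap A₂ E₂).comp f)).toAlgebra
    let u : E₁ →ₐ[A₁] B₂ := { (h.comp q₁) with commutes' := fun a => hh a }
    let v : E₂ →ₐ[A₁] B₂ := { q₂ with commutes' := fun a => rfl }
    have hv : Function.Surjective v := hq₂
    have hk : IsNilpotent (RingHom.ker (v : E₂ →+* B₂)) := by
      have : RingHom.ker (v : E₂ →+* B₂) = Ideal.span {(p : E₂)} := kq₂
      rw [this]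
      refine ⟨n', ?_⟩
      rw [Ideal.span_singleton_pow, TE₂.pn]
      simp
    let w := Algebra.FormallySmooth.liftOfSurjective u v hv hk
    refine ⟨w.toRingHom, fun a => w.commutes a, fun e => ?_⟩
    exact Algebra.FormallySmooth.liftOfSurjective_apply u v hv hk e
  -- the bases
  choose b₀ hb₀ using fun i => hq₁ (β i)
  obtain ⟨b₁, hb₁⟩ := exists_basis (A := A₁) (E := E₁) T₁.pn TE₁.pn TE₁.flat q₁ kq₁ b₀ (by simpa only [hb₀] using hβ₁)
  obtain ⟨b₂, hb₂⟩ := exists_basis (A := A₂) (E := E₂) T₂.pn TE₂.pn TE₂.flat q₂ kq₂ (fun i => H (b₀ i))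
    (by simpa only [hHq, hb₀] using hβ₂)
  have hcp : Cpt TE₁ TE₂ H := cpt_of_etale hf h₁ h₂ H hH
  have htr : ∀ η : Om2 E₁, omap2 f (tr2 T₁.fr TE₁.fr η) = tr2 T₂.fr TE₂.fr (omap2 H η) := by
    intro η
    rw [tr2_apply, tr2_apply, omap2_smul, omap2_vol T₁ T₂ f hf, det_nat TE₁ TE₂ H hcp,
      trace_map f H hH b₁ b₂ (fun i => by rw [hb₁, hb₂])]
  rw [htr, it_nat TE₁ TE₂ H hcp, omap2_sy]
  congr 1
  refine it_cl2 TE₂ hk ?_
  have hl : IsLift q₂ := isLift_of_nilpotent p n' TE₂.pn q₂ hq₂ kq₂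
  rw [← hl.syL_tmap, ← hl.syL_tmap, hy]
  congr 1
  have e1 : q₂.comp H = h.comp q₁ := RingHom.ext hHq
  rw [← AddMonoidHom.comp_apply, ← AddMonoidHom.comp_apply, ← tmap_comp, ← tmap_comp, e1]

end key

end K961
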