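import Groth.Agent.EtCoh.K961.Chart

/-!
# The trace of two-forms of a generically étale cover, definition
-/

set_option autoImplicit false
universe u

noncomputable section

namespace K961

open KaehlerDifferential K611.Gam K611.Gam2 K611.Frame K611.Top K720.Sym K56.T4 K961.Inv

/-- `ω = p^(n-1) * trace of η`. -/
def IsTr {p n : ℕ} {A : Type u} [CommRing A] (T : Tor p n A) (B : Type u) [CommRing B] [Algebra A B]
    (η : Om2 B) (ω : Om2 A) : Prop :=
  ∃ c : Ch T B, ∃ e : Om2 c.E, omap2 c.q e = omap2 (algebraMap B c.B') η ∧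
    omap2 (algebraMap A c.A') ω = p ^ (n - 1) • tr2 c.T'.fr c.TE.fr e

end K961
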