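import Groth.Agent.EtCoh.K961.Lev
import Mathlib.RingTheory.IsTensorProduct

/-!
# Base change of generically étale covers
-/

set_option autoImplicit false
set_option linter.unusedSectionVars false
universe u v w'

noncomputable section

open scoped TensorProduct

namespace K961

open KaehlerDifferential K611.Gam K611.Gam2 K611.Frame K611.Top K720.Sym K56.T4 K961.Inv

/-- Bases modulo `p` and quotients. -/
theorem IsBas.red {p : ℕ} {A A₁ B : Type*} [CommRing A] [CommRing A₁] [CommRing B] {f : A →+* A₁}
    (hf : Function.Surjective f) {j : A →+* B} {j₁ : A₁ →+* B} (hj : ∀ a, j a = j₁ (f a)) {ι : Type*} [Fintype ι]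
    {β : ι → B} (hβ : IsBas p j β) : IsBas p j₁ β where
  span y := by
    obtain ⟨a, rfl⟩ := hβ.span y
    exact ⟨fun i => f (a i), by simp only [hj]⟩
  ind a ha := by
    choose b hb using fun i => hf (a i)
    intro i
    obtain ⟨c, hc⟩ := hβ.ind b (by rw [← ha]; simp only [hj, hb]) i
    exact ⟨f c, by rw [← hb, hc, map_mul, map_natCast]⟩

section pushout

variable {p : ℕ} {A A₂ B B₂ : Type u} [CommRing A] [CommRing A₂] [CommRing B] [CommRing B₂] [Algebra A A₂]
  [Algebra A B] [Algebra A₂ B₂] [Algebra B B₂] [Algebra A B₂] [IsScalarTower A A₂ B₂] [IsScalarTower A B B₂]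

/-- Bases modulo `p` and base change. -/
theorem IsBas.pushout [h : Algebra.IsPushout A A₂ B B₂] {ι : Type v} [Fintype ι] {β : ι → B}
    (hβ : IsBas p (algebraMap A B) β) : IsBas p (algebraMap A₂ B₂) (fun i => algebraMap B B₂ (β i)) where
  span y := by
    have hb := h.out
    induction y using hb.inductionOn with
    | zero => exact ⟨0, by simp⟩
    | tmul b =>
      obtain ⟨a, rfl⟩ := hβ.span b
      refine ⟨fun i => algebraMap A A₂ (a i), ?_⟩
      change algebraMap B B₂ _ = _
      rw [map_sum]
      refine Finset.sum_congr rfl fun i _ => ?_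
      rw [map_mul, ← IsScalarTower.algebraMap_apply, ← IsScalarTower.algebraMap_apply]
    | smul s n hn =>
      obtain ⟨a, rfl⟩ := hn
      refine ⟨fun i => s * a i, ?_⟩
      rw [Algebra.smul_def, Finset.mul_sum]
      refine Finset.sum_congr rfl fun i _ => ?_
      rw [map_mul, mul_assoc]
    | add n₁ n₂ h₁ h₂ =>
      obtain ⟨a, rfl⟩ := h₁
      obtain ⟨b, rfl⟩ := h₂
      refine ⟨fun i => a i + b i, ?_⟩
      rw [← Finset.sum_add_distrib]
      refine Finset.sum_congr rfl fun i _ => ?_
      rw [map_add, add_mul]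
  ind a ha i := by
    classical
    let I : Ideal A := Ideal.span {(p : A)}
    let I₂ : Ideal A₂ := Ideal.span {(p : A₂)}
    choose c hc using hβ.span
    have huniq : ∀ (y : B) (a : ι → A), y = ∑ i, algebraMap A B (a i) * β i → ∀ i,
        (Ideal.Quotient.mk I₂ (algebraMap A A₂ (c y i))) = Ideal.Quotient.mk I₂ (algebraMap A A₂ (a i)) := by
      intro y a hy i
      obtain ⟨d, hd⟩ := hβ.ind (fun i => c y i - a i) (by
        simp only [map_sub, sub_mul, Finset.sum_sub_distrib]
        rw [← hc, ← hy, sub_self]) i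
      rw [Ideal.Quotient.eq, ← map_sub, hd, map_mul, map_natCast, Ideal.mem_span_singleton]
      exact dvd_mul_right _ _
    let l : B →ₗ[A] A₂ ⧸ I₂ :=
      { toFun := fun y => Ideal.Quotient.mk I₂ (algebraMap A A₂ (c y i))
        map_add' := fun x y => by
          rw [huniq (x + y) (fun i => c x i + c y i) (by
            simp only [map_add, add_mul, Finset.sum_add_distrib]
            rw [← hc, ← hc]), map_add, map_add]
        map_smul' := fun s x => by
          rw [huniq (s • x) (fun i => s * c x i) (by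
            rw [Algebra.smul_def]
            conv_lhs => rw [hc x]
            rw [Finset.mul_sum]
            refine Finset.sum_congr rfl fun i _ => ?_
            rw [map_mul, mul_assoc]), map_mul, map_mul, RingHom.id_apply, Algebra.smul_def]
          rfl }
    have hl : ∀ j, l (β j) = if j = i then 1 else 0 := by
      intro j
      change Ideal.Quotient.mk I₂ (algebraMap A A₂ (c (β j) i)) = _
      rw [huniq (β j) (fun k => if j = k then 1 else 0) (by simp)]
      split_ifs <;> simp
    have hb := h.out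
    let L := hb.lift l
    have hL : ∀ y, L (algebraMap B B₂ y) = l y := fun y => hb.lift_eq l y
    have h1 : L (∑ i, algebraMap A₂ B₂ (a i) * algebraMap B B₂ (β i)) = Ideal.Quotient.mk I₂ (a i) := by
      rw [map_sum]
      have : ∀ k, L (algebraMap A₂ B₂ (a k) * algebraMap B B₂ (β k)) = if k = i then Ideal.Quotient.mk I₂ (a k) else 0 := by
        intro k
        rw [← Algebra.smul_def, map_smul, hL, hl]
        split_ifs
        · rw [Algebra.smul_def, mul_one]
          rfl
        · rw [smul_zero]
      rw [Finset.sum_congr rfl fun k _ => this k]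
      simp
    rw [ha, map_zero] at h1
    have h2 := Ideal.Quotient.eq_zero_iff_mem.1 h1.symm
    rw [Ideal.mem_span_singleton] at h2
    exact h2

/-- Regular elements modulo `p` and flat base change. -/
theorem nzd_flat [Module.Flat A A₂] {g : A} (hg : ∀ a c : A, g * a = p * c → ∃ d, a = p * d) (a c : A₂)
    (hac : algebraMap A A₂ g * a = p * c) : ∃ d, a = p * d := by
  have h1 : ∑ j : Fin 2, (![g, -(p : A)] j) • (![a, c] j) = 0 := by
    rw [Fin.sum_univ_two]
    change g • a + (-(p : A)) • c = 0
    rw [Algebra.smul_def, hac, neg_smul, Algebra.smul_def, map_natCast, add_neg_cancel]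
  have h2 := (Module.Flat.iff_forall_isTrivialRelation (R := A) (M := A₂)).mp inferInstance h1
  obtain ⟨κ, b, y, h3, h4⟩ := h2
  have h5 : ∀ k, ∃ d, b 0 k = (p : A) * d := fun k => hg _ (b 1 k) (by
    have := h4 k
    rw [Fin.sum_univ_two] at this
    change g • b 0 k + (-(p : A)) • b 1 k = 0 at this
    rw [smul_eq_mul, neg_smul, smul_eq_mul] at this
    exact add_neg_eq_zero.1 this)
  choose d hd using h5
  refine ⟨∑ k, d k • y k, ?_⟩
  have h6 := h3 0
  change a = _ at h6
  rw [h6, Finset.mul_sum]
  refine Finset.sum_congr rfl fun k _ => ?_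
  rw [hd, Algebra.smul_def, Algebra.smul_def, map_mul, map_natCast, mul_assoc]

/-- Differentials are spanned by the image of the base. -/
theorem unr_pushout [h : Algebra.IsPushout A A₂ B B₂] {g : A} (hg : ∀ ω : Ω[B⁄A], algebraMap A B g • ω = 0)
    (ω : Ω[B₂⁄A₂]) : algebraMap A₂ B₂ (algebraMap A A₂ g) • ω = 0 := by
  have h0 : ∀ y : B₂, algebraMap A₂ B₂ (algebraMap A A₂ g) • KaehlerDifferential.D A₂ B₂ y = 0 := by
    intro y
    have hb := h.out
    induction y using hb.inductionOn with
    | zero => rw [map_zero, smul_zero]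
    | tmul b =>
      change _ • KaehlerDifferential.D A₂ B₂ (algebraMap B B₂ b) = 0
      rw [← KaehlerDifferential.map_D A A₂ B B₂, ← IsScalarTower.algebraMap_apply,
        IsScalarTower.algebraMap_apply A B B₂]
      have h1 : algebraMap B B₂ (algebraMap A B g) • KaehlerDifferential.map A A₂ B B₂ (KaehlerDifferential.D A B b) =
          KaehlerDifferential.map A A₂ B B₂ (algebraMap A B g • KaehlerDifferential.D A B b) := by
        rw [map_smul, algebraMap_smul]
      rw [h1, hg, map_zero]
    | smul s n hn =>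
      rw [Derivation.map_smul, smul_comm, hn, smul_zero]
    | add n₁ n₂ h₁ h₂ => rw [map_add, smul_add, h₁, h₂, add_zero]
  have hx : ω ∈ Submodule.span B₂ (Set.range (KaehlerDifferential.D A₂ B₂)) := by
    rw [KaehlerDifferential.span_range_derivation]
    trivial
  induction hx using Submodule.span_induction with
  | mem x h =>
    obtain ⟨d, rfl⟩ := h
    exact h0 d
  | zero => rw [smul_zero]
  | add x y _ _ hx hy => rw [smul_add, hx, hy, add_zero]
  | smul a x _ hx => rw [smul_comm, hx, smul_zero]

theorem etale_pushout [h : Algebra.IsPushout A A₂ B B₂] [Algebra.Etale A A₂] : Algebra.Etale B B₂ := by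
  have h' : Algebra.IsPushout A B A₂ B₂ := h.symm
  exact .of_equiv (Algebra.IsPushout.equiv A B A₂ B₂)

end pushout

section cov

variable {p n : ℕ} [hp : Fact p.Prime] {R A B : Type u} [CommRing R] [CommRing A] [Algebra R A]
  [CommRing B] [Algebra R B] [Algebra A B] [IsScalarTower R A B] {g : A}

/-- Étale base change. -/
theorem Cov.etale (hB : Cov p R A B g) {A₂ B₂ : Type u} [CommRing A₂] [CommRing B₂] [Algebra A A₂] [Algebra A₂ B₂]
    [Algebra B B₂] [Algebra A B₂] [IsScalarTower A A₂ B₂] [IsScalarTower A B B₂] [Algebra R A₂] [Algebra R B₂]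
    [IsScalarTower R A A₂] [IsScalarTower R A₂ B₂] [Algebra.IsPushout A A₂ B B₂] [Algebra.Etale A A₂] :
    Cov p R A₂ B₂ (algebraMap A A₂ g) where
  nil := hB.nil
  pB := by rw [← map_natCast (algebraMap B B₂), hB.pB, map_zero]
  nzd := nzd_flat hB.nzd
  bas := by
    obtain ⟨m, β, hβ⟩ := hB.bas
    exact ⟨m, _, hβ.pushout (A₂ := A₂) (B₂ := B₂)⟩
  sm := by
    intro _ _
    let _ : Algebra (R ⧸ Ideal.span {(p : R)}) B := (Ideal.Quotient.lift _ (algebraMap R B) (by
      have : Ideal.span {(p : R)} ≤ RingHom.ker (algebraMap R B) := by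
        rw [Ideal.span_singleton_le_iff_mem, RingHom.mem_ker, map_natCast, hB.pB]
      exact this)).toAlgebra
    have _ : IsScalarTower R (R ⧸ Ideal.span {(p : R)}) B := IsScalarTower.of_algebraMap_eq fun r => rfl
    have _ := hB.sm
    have e1 : ∀ r : R, algebraMap R B₂ r = algebraMap B B₂ (algebraMap R B r) := by
      intro r
      rw [IsScalarTower.algebraMap_apply R A₂ B₂, IsScalarTower.algebraMap_apply R A A₂,
        ← IsScalarTower.algebraMap_apply A A₂ B₂, IsScalarTower.algebraMap_apply A B B₂,
        ← IsScalarTower.algebraMap_apply R A B]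
    have _ : IsScalarTower (R ⧸ Ideal.span {(p : R)}) B B₂ := by
      refine IsScalarTower.of_algebraMap_eq fun r => ?_
      obtain ⟨r, rfl⟩ := Ideal.Quotient.mk_surjective r
      change algebraMap (R ⧸ Ideal.span {(p : R)}) B₂ (algebraMap R (R ⧸ Ideal.span {(p : R)}) r) =
        algebraMap B B₂ (algebraMap (R ⧸ Ideal.span {(p : R)}) B (algebraMap R (R ⧸ Ideal.span {(p : R)}) r))
      rw [← IsScalarTower.algebraMap_apply R (R ⧸ Ideal.span {(p : R)}) B₂,
        ← IsScalarTower.algebraMap_apply R (R ⧸ Ideal.span {(p : R)}) B, e1]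
    have hs : (algebraMap (R ⧸ Ideal.span {(p : R)}) B).Smooth := RingHom.smooth_algebraMap.2 hB.sm
    have het : Algebra.Etale B B₂ := etale_pushout (A := A) (A₂ := A₂)
    have hs2 : (algebraMap B B₂).Smooth := RingHom.smooth_algebraMap.2 inferInstance
    rw [← RingHom.smooth_algebraMap, IsScalarTower.algebraMap_eq (R ⧸ Ideal.span {(p : R)}) B B₂]
    exact hs.comp hs2
  unr := unr_pushout hB.unr

/-- Reduction modulo `p`. -/
theorem Cov.red (hB : Cov p R A B g) {R₁ A₁ : Type u} [CommRing R₁] [CommRing A₁] [Algebra R₁ A₁] [Algebra R₁ B]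
    [Algebra A₁ B] [IsScalarTower R₁ A₁ B] (r : R →+* R₁) (hr : Function.Surjective r)
    (kr : RingHom.ker r = Ideal.span {(p : R)}) (hrB : ∀ x, algebraMap R₁ B (r x) = algebraMap R B x)
    (f : A →+* A₁) (hf : Function.Surjective f) (kf : RingHom.ker f = Ideal.span {(p : A)})
    (hfB : ∀ x, algebraMap A₁ B (f x) = algebraMap A B x) : Cov p R₁ A₁ B (f g) := by
  have hpA : (p : A₁) = 0 := by
    have : (p : A) ∈ RingHom.ker f := by rw [kf]; exact Ideal.mem_span_singleton_self _
    rw [← map_natCast f]
    exact this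
  have hpR : (p : R₁) = 0 := by
    have : (p : R) ∈ RingHom.ker r := by rw [kr]; exact Ideal.mem_span_singleton_self _
    rw [← map_natCast r]
    exact this
  refine ⟨⟨1, by rw [pow_one, hpR]⟩, hB.pB, fun a c hac => ?_, ?_, ?_, ?_⟩
  · obtain ⟨a, rfl⟩ := hf a
    rw [hpA, zero_mul, ← map_mul] at hac
    have h1 : g * a ∈ RingHom.ker f := hac
    rw [kf, Ideal.mem_span_singleton] at h1
    obtain ⟨c', hc'⟩ := h1
    obtain ⟨d, rfl⟩ := hB.nzd a c' hc'
    exact ⟨f d, by rw [map_mul, map_natCast]⟩
  · obtain ⟨m, β, hβ⟩ := hB.bas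
    exact ⟨m, β, hβ.red hf fun a => (hfB a).symm⟩
  · intro _ _
    let _ : Algebra (R ⧸ Ideal.span {(p : R)}) B := (Ideal.Quotient.lift _ (algebraMap R B) (by
      have : Ideal.span {(p : R)} ≤ RingHom.ker (algebraMap R B) := by
        rw [Ideal.span_singleton_le_iff_mem, RingHom.mem_ker, map_natCast, hB.pB]
      exact this)).toAlgebra
    have _ : IsScalarTower R (R ⧸ Ideal.span {(p : R)}) B := IsScalarTower.of_algebraMap_eq fun r => rfl
    have hs := hB.sm
    let e₁ : R ⧸ Ideal.span {(p : R)} ≃+* R₁ :=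
      (Ideal.quotEquivOfEq kr.symm).trans (RingHom.quotientKerEquivOfSurjective hr)
    let e₂ : R₁ ≃+* R₁ ⧸ Ideal.span {(p : R₁)} :=
      (RingEquiv.quotientBot R₁).symm.trans (Ideal.quotEquivOfEq (by rw [hpR]; simp))
    let e : R₁ ⧸ Ideal.span {(p : R₁)} ≃+* R ⧸ Ideal.span {(p : R)} := (e₁.trans e₂).symm
    have he : ∀ x, algebraMap (R ⧸ Ideal.span {(p : R)}) B (e x) = algebraMap (R₁ ⧸ Ideal.span {(p : R₁)}) B x := by
      intro x
      obtain ⟨x, rfl⟩ := Ideal.Quotient.mk_surjective x
      obtain ⟨x, rfl⟩ := hr x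
      have h1 : e (Ideal.Quotient.mk _ (r x)) = Ideal.Quotient.mk _ x := by
        rw [RingEquiv.symm_apply_eq]
        rfl
      rw [h1]
      change algebraMap R B x = algebraMap (R₁ ⧸ Ideal.span {(p : R₁)}) B (algebraMap R₁ (R₁ ⧸ Ideal.span {(p : R₁)}) (r x))
      rw [← IsScalarTower.algebraMap_apply, hrB]
    have h2 : (algebraMap (R ⧸ Ideal.span {(p : R)}) B).Smooth := RingHom.smooth_algebraMap.2 hs
    rw [← RingHom.smooth_algebraMap]
    have h3 : algebraMap (R₁ ⧸ Ideal.span {(p : R₁)}) B =
        (algebraMap (R ⧸ Ideal.span {(p : R)}) B).comp (e : _ →+* _) := RingHom.ext fun x => (he x).symm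
    rw [h3]
    have h4 : ((e : R₁ ⧸ Ideal.span {(p : R₁)} →+* R ⧸ Ideal.span {(p : R)})).Smooth :=
      RingHom.Smooth.of_bijective e.bijective
    exact h4.comp h2
  · intro ω
    have h0 : ∀ y : B, algebraMap A₁ B (f g) • KaehlerDifferential.D A₁ B y = 0 := by
      intro y
      rw [hfB]
      let _ : Algebra A A₁ := f.toAlgebra
      have _ : IsScalarTower A A₁ B := IsScalarTower.of_algebraMap_eq fun x => (hfB x).symm
      have h1 : KaehlerDifferential.map A A₁ B B (algebraMap A B g • KaehlerDifferential.D A B y) =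
          algebraMap A B g • KaehlerDifferential.D A₁ B y := by
        rw [map_smul, KaehlerDifferential.map_D]
        rfl
      rw [← h1, hB.unr, map_zero]
    have hx : ω ∈ Submodule.span B (Set.range (KaehlerDifferential.D A₁ B)) := by
      rw [KaehlerDifferential.span_range_derivation]
      trivial
    induction hx using Submodule.span_induction with
    | mem x h =>
      obtain ⟨d, rfl⟩ := h
      exact h0 d
    | zero => rw [smul_zero]
    | add x y _ _ hx hy => rw [smul_add, hx, hy, add_zero]
    | smul a x _ hx => rw [smul_comm, hx, smul_zero]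

end cov

end K961
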