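import Groth.Agent.EtCoh.K961.Main
import Groth.Agent.EtCoh.K720.Lev1

/-!
# Level one

* level-one properties of a toric chart: `gam2_S`, `S_of_gam2`, `S_sy`;
* `IsTR T B η ω`: the two-form `ω` is the trace of the two-form `η`;
* existence, uniqueness, linearity, naturality, products, compatibility with the Cartier operator;
* `IsTau.level`: the reduction of the symbol trace of `z` is the trace of `sy z`.
-/

set_option autoImplicit false
set_option linter.unusedSectionVars false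
universe u v w'

noncomputable section

open scoped TensorProduct

namespace K961

open KaehlerDifferential K611.Gam K611.Gam2 K611.Frame K611.Top K720.Sym K56.T4 K961.Inv

section one

variable {p : ℕ} [hp : Fact p.Prime] {A : Type u} [CommRing A] (T : Tor p 1 A)

include T in
theorem p_zero : (p : A) = 0 := by
  have := T.pn
  rwa [pow_one] at this

theorem phi_one (a : A) : T.φ a = a ^ p := by
  obtain ⟨b, hb⟩ := T.hφ a
  rw [hb, p_zero T, zero_mul, add_zero]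

theorem gam2_psi2 (h0 : (p : A) = 0) (ω : Om2 A) : gam2 p h0 ω = cl2 (psi2 T ω) := by
  conv_lhs => rw [eq_det T.fr ω]
  rw [gam2_smul_vol]
  unfold psi2
  rw [phi_one T, smul_smul, mul_assoc]

theorem isPB_one : K675.PBasis.IsPB p (fun e : Fin 2 → Fin p => ∏ i, T.fr.x i ^ (e i : ℕ)) := by
  let eq : (Fin 2 → Fin p) ≃ Fin p × Fin p := finTwoArrowEquiv (Fin p)
  have h : K675.PBasis.IsPB p (fun e : Fin p × Fin p => T.fr.x 0 ^ (e.1 : ℕ) * T.fr.x 1 ^ (e.2 : ℕ)) := by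
    unfold K675.PBasis.IsPB
    have := T.bas
    simp only [phi_one T] at this
    exact this
  have h2 := h.reindex eq
  have : ((fun e : Fin p × Fin p => T.fr.x 0 ^ (e.1 : ℕ) * T.fr.x 1 ^ (e.2 : ℕ)) ∘ eq) =
      (fun e : Fin 2 → Fin p => ∏ i, T.fr.x i ^ (e i : ℕ)) := by
    funext e
    rw [Fin.prod_univ_two]
    rfl
  rw [← this]
  exact h2

include T in
theorem goodN [Nontrivial A] : K611.Seq2.GoodN p 2 (CommRingCat.of A) := by
  refine ⟨(CharP.charP_iff_prime_eq_zero hp.out).mpr (p_zero T), T.fr, isPB_one T⟩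

include T in
theorem gam2_surj (h0 : (p : A) = 0) (q : Q2 A) : ∃ z, gam2 p h0 z = q := by
  cases subsingleton_or_nontrivial A
  · have : Subsingleton (Om2 A) := Module.subsingleton A _
    obtain ⟨z, rfl⟩ := cl2_surjective A q
    exact ⟨0, by rw [Subsingleton.elim z 0, map_zero]; exact (cl2_zero _).symm⟩
  · exact K611.Seq2.gam2_surjective_of_good p (goodN T) h0 q

theorem S_of_gam2 (h0 : (p : A) = 0) {η θ : Om2 A} (h : gam2 p h0 η = cl2 θ) : T.S θ = η := by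
  rw [gam2_psi2 T] at h
  have h1 := it_cl2 T le_rfl h
  change T.S (psi2 T η) = T.S θ at h1
  rw [← h1, S_psi2]

theorem gam2_S (h0 : (p : A) = 0) (ω : Om2 A) : gam2 p h0 (T.S ω) = cl2 ω := by
  obtain ⟨ζ, hζ⟩ := gam2_surj T h0 (cl2 ω)
  rw [S_of_gam2 T h0 hζ, hζ]

theorem gam2_sy (h0 : (p : A) = 0) (z : Tn A) : gam2 p h0 (sy z) = cl2 (sy z) := by
  induction z using tn_induction with
  | h0 => rw [map_zero, map_zero]; exact (cl2_zero _).symm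
  | hadd x y hx hy => rw [map_add, map_add, cl2_add, hx, hy]
  | hs u v =>
    rw [sy_sb]
    exact (sub_eq_zero.1 (K720.Lev1.cg2_w_dl p (B := CommRingCat.of A) h0 u v)).symm

theorem S_sy (z : Tn A) : T.S (sy z) = sy z := S_of_gam2 T (p_zero T) (gam2_sy (p_zero T) z)

theorem it_sy (k : ℕ) (z : Tn A) : it T k (sy z) = sy z := by
  induction k with
  | zero => rfl
  | succ k ih => rw [it_succ, ih, S_sy]

end one

section key0

variable {p n n' : ℕ} [hp : Fact p.Prime] {A₁ A₂ E₁ E₂ : Type u} [CommRing A₁] [CommRing A₂] [CommRing E₁] [CommRing E₂]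
  [Algebra A₁ E₁] [Algebra A₂ E₂]

/-- The comparison map of étale lifts. -/
theorem key0 {T₁ : Tor p n A₁} {T₂ : Tor p n' A₂} {f : A₁ →+* A₂} (hf : Cpt T₁ T₂ f)
    [Algebra.Etale A₁ E₁] {TE₁ : Tor p n E₁} (h₁ : Cpt T₁ TE₁ (algebraMap A₁ E₁))
    {TE₂ : Tor p n' E₂} (h₂ : Cpt T₂ TE₂ (algebraMap A₂ E₂)) {B₁ B₂ : Type u} [CommRing B₁] [CommRing B₂]
    (q₁ : E₁ →+* B₁) (hq₁ : Function.Surjective q₁) (kq₁ : RingHom.ker q₁ = Ideal.span {(p : E₁)})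
    (q₂ : E₂ →+* B₂) (hq₂ : Function.Surjective q₂) (kq₂ : RingHom.ker q₂ = Ideal.span {(p : E₂)})
    (h : B₁ →+* B₂) (hh : ∀ a, h (q₁ (algebraMap A₁ E₁ a)) = q₂ (algebraMap A₂ E₂ (f a)))
    {ι : Type v} [Fintype ι] (β : ι → B₁) (hβ₁ : IsBas p (q₁.comp (algebraMap A₁ E₁)) β)
    (hβ₂ : IsBas p (q₂.comp (algebraMap A₂ E₂)) (fun i => h (β i))) :
    ∃ H : E₁ →+* E₂, (∀ e, q₂ (H e) = h (q₁ e)) ∧ Cpt TE₁ TE₂ H ∧
      ∀ η : Om2 E₁, omap2 f (tr2 T₁.fr TE₁.fr η) = tr2 T₂.fr TE₂.fr (omap2 H η) := by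
  obtain ⟨H, hH, hHq⟩ : ∃ H : E₁ →+* E₂, (∀ a, H (algebraMap A₁ E₁ a) = algebraMap A₂ E₂ (f a)) ∧
      ∀ e, q₂ (H e) = h (q₁ e) := by
    let _ : Algebra A₁ E₂ := ((algebraMap A₂ E₂).comp f).toAlgebra
    let _ : Algebra A₁ B₂ := (q₂.comp ((algebraMap A₂ E₂).comp f)).toAlgebra
    let u : E₁ →ₐ[A₁] B₂ := { (h.comp q₁) with commutes' := fun a => hh a }
    let v : E₂ →ₐ[A₁] B₂ := { q₂ with commutes' := fun a => rfl }
    have hv : Function.Surjective v := hq₂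
    have hk : IsNilpotent (RingHom.ker (v : E₂ →+* B₂)) := by
      have : RingHom.ker (v : E₂ →+* B₂) = Ideal.span {(p : E₂)} := kq₂
      rw [this]
      refine ⟨n', ?_⟩
      rw [Ideal.span_singleton_pow, TE₂.pn]
      simp
    let w := Algebra.FormallySmooth.liftOfSurjective u v hv hk
    refine ⟨w.toRingHom, fun a => w.commutes a, fun e => ?_⟩
    exact Algebra.FormallySmooth.liftOfSurjective_apply u v hv hk e
  choose b₀ hb₀ using fun i => hq₁ (β i)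
  obtain ⟨b₁, hb₁⟩ := exists_basis (A := A₁) (E := E₁) T₁.pn TE₁.pn TE₁.flat q₁ kq₁ b₀ (by simpa only [hb₀] using hβ₁)
  obtain ⟨b₂, hb₂⟩ := exists_basis (A := A₂) (E := E₂) T₂.pn TE₂.pn TE₂.flat q₂ kq₂ (fun i => H (b₀ i))
    (by simpa only [hHq, hb₀] using hβ₂)
  have hcp : Cpt TE₁ TE₂ H := cpt_of_etale hf h₁ h₂ H hH
  refine ⟨H, hHq, hcp, fun η => ?_⟩
  rw [tr2_apply, tr2_apply, omap2_smul, omap2_vol T₁ T₂ f hf, det_nat TE₁ TE₂ H hcp,
    trace_map f H hH b₁ b₂ (fun i => by rw [hb₁, hb₂])]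

end key0

/-- Level one: the two-form `ω` is the trace of the two-form `η`. -/
def IsTR {p : ℕ} {A : Type u} [CommRing A] (T : Tor p 1 A) (B : Type u) [CommRing B] [Algebra A B] (η : Om2 B)
    (ω : Om2 A) : Prop :=
  ∃ (c : Ch T B) (η' : Om2 c.E), omap2 c.q η' = omap2 (algebraMap B c.B') η ∧
    omap2 (algebraMap A c.A') ω = tr2 c.T'.fr c.TE.fr η'

section cmp

variable {p n : ℕ} [hp : Fact p.Prime] {A₁ A₂ B₁ B₂ : Type u} [CommRing A₁] [CommRing A₂] [CommRing B₁] [CommRing B₂]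
  [Algebra A₁ B₁] [Algebra A₂ B₂] {T₁ : Tor p n A₁} {T₂ : Tor p 1 A₂} (c₁ : Ch T₁ B₁) (c₂ : Ch T₂ B₂)
  {f : A₁ →+* A₂} (hf : Cpt T₁ T₂ f) {h : B₁ →+* B₂} (hh : ∀ a, h (algebraMap A₁ B₁ a) = algebraMap A₂ B₂ (f a))
  (hu : IsUnit (algebraMap A₂ c₂.A' (f c₁.g)))

theorem Ch.q_injective {T : Tor p 1 A₁} (c : Ch T B₁) : Function.Injective c.q := by
  rw [RingHom.injective_iff_ker_eq_bot, c.kq, p_zero c.TE]
  simp

theorem Ch.omap2_q_injective {T : Tor p 1 A₁} (c : Ch T B₁) {η η' : Om2 c.E} (e : omap2 c.q η = omap2 c.q η') :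
    η = η' := by
  let eq : c.E ≃+* c.B' := RingEquiv.ofBijective c.q ⟨c.q_injective, c.hq⟩
  have h1 : ∀ x : Om2 c.E, omap2 (eq.symm : c.B' →+* c.E) (omap2 c.q x) = x := by
    intro x
    rw [← AddMonoidHom.comp_apply, ← omap2_comp]
    have : (eq.symm : c.B' →+* c.E).comp c.q = RingHom.id _ := RingHom.ext fun a => eq.symm_apply_apply a
    rw [this, omap2_id]
    rfl
  rw [← h1 η, e, h1]

include hf hh in
theorem cmp_tr2_one {ι : Type v} [Fintype ι] (β : ι → B₁) (hβ₁ : IsBas p (algebraMap A₁ B₁) β)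
    (hβ₂ : IsBas p (algebraMap A₂ B₂) (fun i => h (β i))) (η : Om2 B₁) (η₁ : Om2 c₁.E)
    (hη₁ : omap2 c₁.q η₁ = omap2 (algebraMap B₁ c₁.B') η) (η₂ : Om2 c₂.E)
    (hη₂ : omap2 c₂.q η₂ = omap2 (algebraMap B₂ c₂.B') (omap2 h η)) :
    omap2 (mapA c₁ c₂ hu) (tr2 c₁.T'.fr c₁.TE.fr η₁) = tr2 c₂.T'.fr c₂.TE.fr η₂ := by
  obtain ⟨h', hh'⟩ := exists_mapB c₁ c₂ hh hu
  have e1 : h'.comp (c₁.q.comp (algebraMap c₁.A' c₁.E)) =
      c₂.q.comp ((algebraMap c₂.A' c₂.E).comp (mapA c₁ c₂ hu)) := by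
    refine IsLocalization.ringHom_ext (Submonoid.powers c₁.g) (RingHom.ext fun a => ?_)
    change h' (c₁.q (algebraMap c₁.A' c₁.E (algebraMap A₁ c₁.A' a))) =
      c₂.q (algebraMap c₂.A' c₂.E (mapA c₁ c₂ hu (algebraMap A₁ c₁.A' a)))
    rw [c₁.comm, hh', mapA_alg, c₂.comm, hh]
  obtain ⟨H, hH1, -, hH2⟩ := key0 (mapA_cpt c₁ c₂ hf hu) c₁.cptE c₂.cptE c₁.q c₁.hq c₁.kq c₂.q c₂.hq c₂.kq h'
    (fun a => DFunLike.congr_fun e1 a) _ (c₁.isBas hβ₁) (by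
      have e2 : (fun i => h' (algebraMap B₁ c₁.B' (β i))) = fun i => algebraMap B₂ c₂.B' (h (β i)) :=
        funext fun i => hh' _
      rw [e2]
      exact c₂.isBas hβ₂)
  rw [hH2]
  congr 1
  apply c₂.omap2_q_injective
  rw [hη₂, ← AddMonoidHom.comp_apply, ← omap2_comp, ← AddMonoidHom.comp_apply, ← omap2_comp]
  have e3 : c₂.q.comp H = h'.comp c₁.q := RingHom.ext hH1
  have e4 : (algebraMap B₂ c₂.B').comp h = h'.comp (algebraMap B₁ c₁.B') := RingHom.ext fun b => (hh' b).symm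
  rw [e3, e4, omap2_comp, omap2_comp, AddMonoidHom.comp_apply, AddMonoidHom.comp_apply, hη₁]

end cmp

section main

variable {p n : ℕ} [hp : Fact p.Prime] {R A B : Type u} [CommRing R] [CommRing A] [Algebra R A] [Algebra.Smooth R A]
  [CommRing B] [Algebra R B] [Algebra A B] [IsScalarTower R A B] {g : A} {T : Tor p 1 A}

/-- Existence of charts with integrality of the trace of two-forms. -/
theorem Cov.exists_ch_one (T : Tor p 1 A) (hB : Cov p R A B g) :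
    ∃ c : Ch T B, c.g = g ∧ ∀ η : Om2 B, ∃ (η' : Om2 c.E) (ω : Om2 A), omap2 c.q η' = omap2 (algebraMap B c.B') η ∧
      omap2 (algebraMap A c.A') ω = tr2 c.T'.fr c.TE.fr η' := by
  have hg : g ∈ nonZeroDivisors A := mem_nzd T hB.nzd
  have _ : Algebra.Etale A (Localization.Away g) := Algebra.Etale.of_isLocalizationAway g
  obtain ⟨T', hT'⟩ := exists_tor_etale T (algebraMap A (Localization.Away g))
    (RingHom.etale_algebraMap.2 inferInstance)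
  obtain ⟨e, -, he⟩ := hB.exists_chE' one_pos T hg T' hT'
  exact ⟨e.toCh hg hT', rfl, he⟩

/-- The trace is unique. -/
theorem IsTR.unique (hB : Cov p R A B g) {η : Om2 B} {ω ω' : Om2 A} (h : IsTR T B η ω)
    (h' : IsTR T B η ω') : ω = ω' := by
  obtain ⟨c, ηc, hηc, hc⟩ := h
  obtain ⟨c', ηc', hηc', hc'⟩ := h'
  have hB' := (hB.mul (nzd_mod one_pos T c.hg)).mul (nzd_mod one_pos T c'.hg)
  obtain ⟨c₂, hc₂, he₂⟩ := hB'.exists_ch_one T
  obtain ⟨η₂, -, hη₂, -⟩ := he₂ η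
  obtain ⟨m, β, hβ⟩ := hB.bas
  have hid : Cpt T T (RingHom.id A) := ⟨fun _ => rfl, fun _ => rfl⟩
  have hu0 : IsUnit (algebraMap A c₂.A' (g * c.g * c'.g)) := by
    rw [← hc₂]
    exact IsLocalization.Away.algebraMap_isUnit _
  rw [map_mul, map_mul] at hu0
  have hu : IsUnit (algebraMap A c₂.A' (RingHom.id A c.g)) :=
    isUnit_of_mul_isUnit_right (isUnit_of_mul_isUnit_left hu0)
  have hu' : IsUnit (algebraMap A c₂.A' (RingHom.id A c'.g)) := isUnit_of_mul_isUnit_right hu0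
  have hη₂' : omap2 c₂.q η₂ = omap2 (algebraMap B c₂.B') (omap2 (RingHom.id B) η) := by
    rw [omap2_id]
    exact hη₂
  have e1 := cmp_tr2_one c c₂ hid (h := RingHom.id B) (fun _ => rfl) hu β hβ hβ η ηc hηc η₂ hη₂'
  have e2 := cmp_tr2_one c' c₂ hid (h := RingHom.id B) (fun _ => rfl) hu' β hβ hβ η ηc' hηc' η₂ hη₂'
  apply omap2_inj c₂.cpt c₂.injective
  have e3 : ∀ (c₀ : Ch T B) (hu₀ : IsUnit (algebraMap A c₂.A' (RingHom.id A c₀.g))) (ω₀ : Om2 A),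
      omap2 (algebraMap A c₂.A') ω₀ = omap2 (mapA c₀ c₂ hu₀) (omap2 (algebraMap A c₀.A') ω₀) := by
    intro c₀ hu₀ ω₀
    rw [← AddMonoidHom.comp_apply, ← omap2_comp, mapA_comp]
    rfl
  rw [e3 c hu, e3 c' hu', hc, hc', e1, e2]

/-- Existence of the trace. -/
theorem exists_TR_one (T : Tor p 1 A) (hB : Cov p R A B g) :
    ∃ TR : Om2 B →+ Om2 A, (∀ η, IsTR T B η (TR η)) ∧ ∀ (a : A) (η : Om2 B), TR (algebraMap A B a • η) = a • TR η := by
  obtain ⟨c, -, hc⟩ := hB.exists_ch_one T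
  choose η' τ hη' hτ using hc
  have hadd : ∀ x y, τ (x + y) = τ x + τ y := by
    intro x y
    apply omap2_inj c.cpt c.injective
    have e1 : η' (x + y) = η' x + η' y := by
      apply c.omap2_q_injective
      rw [map_add, hη', hη', hη', map_add]
    rw [hτ, map_add, hτ, hτ, e1, map_add]
  refine ⟨{ toFun := τ, map_zero' := ?_, map_add' := hadd }, fun z => ⟨c, η' z, hη' z, hτ z⟩, fun a η => ?_⟩
  · have := hadd 0 0
    rw [add_zero] at this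
    exact left_eq_add.1 this
  · apply omap2_inj c.cpt c.injective
    change omap2 _ (τ _) = omap2 _ (a • τ _)
    have e1 : η' (algebraMap A B a • η) = algebraMap c.A' c.E (algebraMap A c.A' a) • η' η := by
      apply c.omap2_q_injective
      rw [omap2_smul, hη', omap2_smul, hη', c.comm]
    rw [hτ, omap2_smul, hτ, e1, tr2_apply, tr2_apply, map_smul, smul_eq_mul, ← Algebra.smul_def, map_smul,
      smul_eq_mul, mul_smul]

theorem IsTR.add (hB : Cov p R A B g) {η η' : Om2 B} {ω ω' : Om2 A} (h : IsTR T B η ω)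
    (h' : IsTR T B η' ω') : IsTR T B (η + η') (ω + ω') := by
  obtain ⟨τ, hτ, -⟩ := exists_TR_one T hB
  rw [h.unique hB (hτ η), h'.unique hB (hτ η'), ← map_add]
  exact hτ _

theorem IsTR.smul (hB : Cov p R A B g) (a : A) {η : Om2 B} {ω : Om2 A} (h : IsTR T B η ω) :
    IsTR T B (algebraMap A B a • η) (a • ω) := by
  obtain ⟨τ, hτ, hs⟩ := exists_TR_one T hB
  rw [h.unique hB (hτ η), ← hs]
  exact hτ _

/-- Naturality. -/
theorem IsTR.nat (hB : Cov p R A B g) {R₂ A₂ B₂ : Type u} [CommRing R₂] [CommRing A₂] [Algebra R₂ A₂]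
    [Algebra.Smooth R₂ A₂] [CommRing B₂] [Algebra R₂ B₂] [Algebra A₂ B₂] [IsScalarTower R₂ A₂ B₂] {g₂ : A₂}
    {T₂ : Tor p 1 A₂} (hB₂ : Cov p R₂ A₂ B₂ g₂) {f : A →+* A₂} (hf : Cpt T T₂ f)
    (hreg : ∀ a, a ∈ nonZeroDivisors A → f a ∈ nonZeroDivisors A₂)
    {h : B →+* B₂} (hh : ∀ a, h (algebraMap A B a) = algebraMap A₂ B₂ (f a))
    (hβ : ∀ (m : ℕ) (β : Fin m → B), IsBas p (algebraMap A B) β → IsBas p (algebraMap A₂ B₂) (fun i => h (β i)))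
    {η : Om2 B} {ω : Om2 A} (hz : IsTR T B η ω) : IsTR T₂ B₂ (omap2 h η) (omap2 f ω) := by
  obtain ⟨c, η', hη', hc⟩ := hz
  have hB' := hB₂.mul (nzd_mod one_pos T₂ (hreg _ c.hg))
  obtain ⟨c₂, hc₂, he₂⟩ := hB'.exists_ch_one T₂
  obtain ⟨η₂, -, hη₂, -⟩ := he₂ (omap2 h η)
  obtain ⟨m, β, hβ'⟩ := hB.bas
  have hu0 : IsUnit (algebraMap A₂ c₂.A' (g₂ * f c.g)) := by
    rw [← hc₂]
    exact IsLocalization.Away.algebraMap_isUnit _
  rw [map_mul] at hu0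
  have hu : IsUnit (algebraMap A₂ c₂.A' (f c.g)) := isUnit_of_mul_isUnit_right hu0
  refine ⟨c₂, η₂, hη₂, ?_⟩
  rw [← cmp_tr2_one c c₂ hf hh hu β hβ' (hβ m β hβ') η η' hη' η₂ hη₂, ← hc, ← AddMonoidHom.comp_apply,
    ← AddMonoidHom.comp_apply, ← omap2_comp, ← omap2_comp, mapA_comp]

/-- The trace commutes with the Cartier operator. -/
theorem IsTR.S (hB : Cov p R A B g) (hpB : (p : B) = 0) {η θ : Om2 B} {ω ω' : Om2 A} (h : IsTR T B η ω)
    (h' : IsTR T B θ ω') (e : gam2 p hpB η = cl2 θ) : T.S ω' = ω := by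
  obtain ⟨c, -, hc⟩ := hB.exists_ch_one T
  obtain ⟨η₁, ω₁, hη₁, hω₁⟩ := hc η
  obtain ⟨θ₁, ω₁', hθ₁, hω₁'⟩ := hc θ
  rw [h.unique hB ⟨c, η₁, hη₁, hω₁⟩, h'.unique hB ⟨c, θ₁, hθ₁, hω₁'⟩]
  apply omap2_inj c.cpt c.injective
  rw [← S_nat T c.T' _ c.cpt, hω₁, hω₁', ← tr2_S c.T' c.TE c.cptE]
  congr 1
  have h0 := p_zero c.TE
  refine S_of_gam2 c.TE h0 ?_
  let eq : c.E ≃+* c.B' := RingEquiv.ofBijective c.q ⟨c.q_injective, c.hq⟩
  have hpB' : (p : c.B') = 0 := by rw [← map_natCast (algebraMap B c.B'), hpB, map_zero]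
  have h1 : ∀ x y : Q2 c.E, qmap2 c.q x = qmap2 c.q y → x = y := by
    intro x y hxy
    have h2 : ∀ x : Q2 c.E, qmap2 (eq.symm : c.B' →+* c.E) (qmap2 c.q x) = x := by
      intro x
      obtain ⟨x, rfl⟩ := cl2_surjective _ x
      rw [qmap2_cl2, qmap2_cl2, ← AddMonoidHom.comp_apply, ← omap2_comp]
      have : (eq.symm : c.B' →+* c.E).comp c.q = RingHom.id _ := RingHom.ext fun a => eq.symm_apply_apply a
      rw [this, omap2_id]
      rfl
    rw [← h2 x, hxy, h2]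
  apply h1
  rw [← gam2_nat p h0 hpB' c.q, hη₁, gam2_nat p hpB hpB' (algebraMap B c.B'), e, qmap2_cl2, qmap2_cl2, hθ₁]

/-- The trace maps logarithmic forms to logarithmic forms. -/
theorem IsTR.cart (hB : Cov p R A B g) (hpA : (p : A) = 0) (hpB : (p : B) = 0) {η θ : Om2 B} {ω ω' : Om2 A}
    (h : IsTR T B η ω) (h' : IsTR T B θ ω') (e : gam2 p hpB η = cl2 θ) : gam2 p hpA ω = cl2 ω' := by
  rw [← IsTR.S hB hpB h h' e, gam2_S]

/-- Products. -/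
theorem IsTR.prod {B₁ B₂ : Type u} [CommRing B₁] [CommRing B₂] [Algebra R B₁] [Algebra R B₂]
    [Algebra A B₁] [Algebra A B₂] [IsScalarTower R A B₁] [IsScalarTower R A B₂] {g₁ g₂ : A}
    (h₁ : Cov p R A B₁ g₁) (h₂ : Cov p R A B₂ g₂) {η : Om2 (B₁ × B₂)} {ω₁ ω₂ : Om2 A}
    (e₁ : IsTR T B₁ (omap2 (RingHom.fst B₁ B₂) η) ω₁) (e₂ : IsTR T B₂ (omap2 (RingHom.snd B₁ B₂) η) ω₂) :
    IsTR T (B₁ × B₂) η (ω₁ + ω₂) := by
  have hn1 : ∀ a c : A, g₁ * g₂ * a = p * c → ∃ d, a = p * d := (h₁.mul h₂.nzd).nzd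
  have hg : g₁ * g₂ ∈ nonZeroDivisors A := mem_nzd T hn1
  let A' := Localization.Away (g₁ * g₂)
  have _ : Algebra.Etale A A' := Algebra.Etale.of_isLocalizationAway (g₁ * g₂)
  obtain ⟨T', hT'⟩ := exists_tor_etale T (algebraMap A A') (RingHom.etale_algebraMap.2 inferInstance)
  obtain ⟨c₁, -, hc₁⟩ := (h₁.mul h₂.nzd).exists_chE' one_pos T hg T' hT'
  have h₂' : Cov p R A B₂ (g₁ * g₂) := mul_comm g₂ g₁ ▸ h₂.mul h₁.nzd
  obtain ⟨c₂, -, hc₂⟩ := h₂'.exists_chE' one_pos T hg T' hT'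
  obtain ⟨e, π₁, π₂, ρ₁, ρ₂, hq₁, hq₂, hρ₁, hρ₂, hf₁, hf₂, ht⟩ := ChE.exists_prod' c₁ c₂
  obtain ⟨η', hη'⟩ := omap2_surjective e.q e.hq (omap2 (algebraMap (B₁ × B₂) e.B') η)
  obtain ⟨η₁, ω₁', hη₁, hω₁⟩ := hc₁ (omap2 (RingHom.fst B₁ B₂) η)
  obtain ⟨η₂, ω₂', hη₂, hω₂⟩ := hc₂ (omap2 (RingHom.snd B₁ B₂) η)
  rw [e₁.unique h₁ ⟨c₁.toCh hg hT', η₁, hη₁, hω₁⟩, e₂.unique h₂ ⟨c₂.toCh hg hT', η₂, hη₂, hω₂⟩]
  refine ⟨e.toCh hg hT', η', hη', ?_⟩
  change omap2 (algebraMap A A') (ω₁' + ω₂') = tr2 T'.fr e.TE.fr η'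
  rw [map_add, hω₁, hω₂, ht]
  congr 2
  · apply (c₁.toCh hg hT').omap2_q_injective
    change omap2 c₁.q η₁ = omap2 c₁.q (omap2 π₁ η')
    have h := congrArg (omap2 ρ₁) hη'
    rw [hη₁]
    rw [← AddMonoidHom.comp_apply, ← AddMonoidHom.comp_apply, ← omap2_comp, ← omap2_comp] at h ⊢
    rw [show c₁.q.comp π₁ = ρ₁.comp e.q from RingHom.ext hq₁, h]
    congr 2
    exact RingHom.ext fun b => (hρ₁ b).symm
  · apply (c₂.toCh hg hT').omap2_q_injective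
    change omap2 c₂.q η₂ = omap2 c₂.q (omap2 π₂ η')
    have h := congrArg (omap2 ρ₂) hη'
    rw [hη₂]
    rw [← AddMonoidHom.comp_apply, ← AddMonoidHom.comp_apply, ← omap2_comp, ← omap2_comp] at h ⊢
    rw [show c₂.q.comp π₂ = ρ₂.comp e.q from RingHom.ext hq₂, h]
    congr 2
    exact RingHom.ext fun b => (hρ₂ b).symm

/-- The symbol trace and the trace of two-forms at level one. -/
theorem IsTau.level {T : Tor p n A} (hB : Cov p R A B g) {R₂ A₂ B₂ : Type u} [CommRing R₂] [CommRing A₂] [Algebra R₂ A₂]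
    [Algebra.Smooth R₂ A₂] [CommRing B₂] [Algebra R₂ B₂] [Algebra A₂ B₂] [IsScalarTower R₂ A₂ B₂] {g₂ : A₂}
    {T₂ : Tor p 1 A₂} (hB₂ : Cov p R₂ A₂ B₂ g₂) (hn : 0 < n) {f : A →+* A₂} (hf : Cpt T T₂ f)
    (hreg : ∀ a, a ∈ nonZeroDivisors A → f a ∈ nonZeroDivisors A₂)
    {h : B →+* B₂} (hh : ∀ a, h (algebraMap A B a) = algebraMap A₂ B₂ (f a))
    (hβ : ∀ (m : ℕ) (β : Fin m → B), IsBas p (algebraMap A B) β → IsBas p (algebraMap A₂ B₂) (fun i => h (β i)))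
    {z : Tn B} {ω : Om2 A} (hz : IsTau T B z ω) : IsTR T₂ B₂ (sy (tmap h z)) (omap2 f ω) := by
  obtain ⟨c, hc⟩ := hz
  obtain ⟨y, hy⟩ := c.exists_lift z
  rw [c.val_eq z y hy] at hc
  have hB' := hB₂.mul (nzd_mod one_pos T₂ (hreg _ c.hg))
  obtain ⟨c₂, hc₂, -⟩ := hB'.exists_ch_one T₂
  obtain ⟨y₂, hy₂⟩ := c₂.exists_lift (tmap h z)
  obtain ⟨m, β, hβ'⟩ := hB.bas
  have hu0 : IsUnit (algebraMap A₂ c₂.A' (g₂ * f c.g)) := by
    rw [← hc₂]
    exact IsLocalization.Away.algebraMap_isUnit _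
  rw [map_mul] at hu0
  have hu : IsUnit (algebraMap A₂ c₂.A' (f c.g)) := isUnit_of_mul_isUnit_right hu0
  refine ⟨c₂, sy y₂, ?_, ?_⟩
  · rw [omap2_sy, hy₂, ← omap2_sy]
  · have e1 := cmp_tr2 c c₂ hf hh hu β hβ' (hβ m β hβ') n hn z y hy y₂ hy₂
    rw [it_sy] at e1
    rw [← e1, ← hc, ← AddMonoidHom.comp_apply, ← AddMonoidHom.comp_apply,
      ← omap2_comp, ← omap2_comp, mapA_comp]

end main

end K961
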