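import Groth.Agent.EtCoh.K961.TrDef
import Groth.Agent.EtCoh.K961.Lev
import Groth.Agent.EtCoh.K762.Red
import Groth.Agent.S2733

/-!
# The trace of two-forms of a generically étale cover, at level `n`

`IsTr T B η ω`: `ω = p^(n-1) * trace of η`. Existence, uniqueness, linearity, naturality, comparison with the symbol
trace.
-/

set_option autoImplicit false
set_option linter.unusedSectionVars false
universe u v w'

noncomputable section

open scoped TensorProduct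

namespace K961

open KaehlerDifferential K611.Gam K611.Gam2 K611.Frame K611.Top K720.Sym K56.T4 K961.Inv K762.Red

section ring

variable {p n : ℕ} [hp : Fact p.Prime]

/-- `p^(n-1) ω` depends only on the reduction of `ω`. -/
theorem nsmul_eq_of_red (hn : 0 < n) {E C : Type u} [CommRing E] [CommRing C] (TE : Tor p n E)
    (q : E →+* C) (hq : Function.Surjective q) (kq : RingHom.ker q = Ideal.span {(p : E)}) {e e' : Om2 E}
    (h : omap2 q e = omap2 q e') : ∃ e'' : Om2 E, e = e' + p • e'' := by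
  obtain ⟨T₁, hT₁⟩ := exists_red hn TE q hq kq
  have h1 : q (det TE.fr (e - e')) = 0 := by
    rw [← det_nat TE T₁ q hT₁, map_sub, h, sub_self, map_zero]
  have h2 : det TE.fr (e - e') ∈ RingHom.ker q := h1
  rw [kq, Ideal.mem_span_singleton] at h2
  obtain ⟨c, hc⟩ := h2
  refine ⟨c • vol TE.fr, ?_⟩
  have h3 : e - e' = p • (c • vol TE.fr) := by
    rw [eq_det TE.fr (e - e'), hc, mul_smul, ← Nat.cast_smul_eq_nsmul E]
  rw [← h3]
  abel

theorem tr2_red (hn : 0 < n) {A E C : Type u} [CommRing A] [CommRing E] [CommRing C] [Algebra A E] (T : Tor p n A)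
    (TE : Tor p n E) (q : E →+* C) (hq : Function.Surjective q) (kq : RingHom.ker q = Ideal.span {(p : E)})
    {e e' : Om2 E} (h : omap2 q e = omap2 q e') :
    p ^ (n - 1) • tr2 T.fr TE.fr e = p ^ (n - 1) • tr2 T.fr TE.fr e' := by
  obtain ⟨e'', rfl⟩ := nsmul_eq_of_red hn TE q hq kq h
  rw [map_add, smul_add, map_nsmul, smul_smul, ← pow_succ, Nat.sub_add_cancel hn, nsmul_pn T.pn, add_zero]

end ring

section cmp

variable {p n n' : ℕ} [hp : Fact p.Prime] {A₁ A₂ B₁ B₂ : Type u} [CommRing A₁] [CommRing A₂] [CommRing B₁] [CommRing B₂]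
  [Algebra A₁ B₁] [Algebra A₂ B₂] {T₁ : Tor p n A₁} {T₂ : Tor p n' A₂} (c₁ : Ch T₁ B₁) (c₂ : Ch T₂ B₂)
  {f : A₁ →+* A₂} (hf : Cpt T₁ T₂ f) {h : B₁ →+* B₂} (hh : ∀ a, h (algebraMap A₁ B₁ a) = algebraMap A₂ B₂ (f a))
  (hu : IsUnit (algebraMap A₂ c₂.A' (f c₁.g)))

include hf hh in
theorem cmp_tr (hn' : 0 < n') {ι : Type v} [Fintype ι] (β : ι → B₁) (hβ₁ : IsBas p (algebraMap A₁ B₁) β)
    (hβ₂ : IsBas p (algebraMap A₂ B₂) (fun i => h (β i))) (η : Om2 B₁) (η₁ : Om2 c₁.E)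
    (hη₁ : omap2 c₁.q η₁ = omap2 (algebraMap B₁ c₁.B') η) (η₂ : Om2 c₂.E)
    (hη₂ : omap2 c₂.q η₂ = omap2 (algebraMap B₂ c₂.B') (omap2 h η)) :
    p ^ (n' - 1) • omap2 (mapA c₁ c₂ hu) (tr2 c₁.T'.fr c₁.TE.fr η₁) = p ^ (n' - 1) • tr2 c₂.T'.fr c₂.TE.fr η₂ := by
  obtain ⟨h', hh'⟩ := exists_mapB c₁ c₂ hh hu
  have e1 : h'.comp (c₁.q.comp (algebraMap c₁.A' c₁.E)) =
      c₂.q.comp ((algebraMap c₂.A' c₂.E).comp (mapA c₁ c₂ hu)) := by
    refine IsLocalization.ringHom_ext (Submonoid.powers c₁.g) (RingHom.ext fun a => ?_)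
    change h' (c₁.q (algebraMap c₁.A' c₁.E (algebraMap A₁ c₁.A' a))) =
      c₂.q (algebraMap c₂.A' c₂.E (mapA c₁ c₂ hu (algebraMap A₁ c₁.A' a)))
    rw [c₁.comm, hh', mapA_alg, c₂.comm, hh]
  obtain ⟨H, hH1, -, hH2⟩ := key0 (mapA_cpt c₁ c₂ hf hu) c₁.cptE c₂.cptE c₁.q c₁.hq c₁.kq c₂.q c₂.hq c₂.kq h'
    (fun a => DFunLike.congr_fun e1 a) _ (c₁.isBas hβ₁) (by
      have e2 : (fun i => h' (algebraMap B₁ c₁.B' (β i))) = fun i => algebraMap B₂ c₂.B' (h (β i)) :=
        funext fun i => hh' _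
      rw [e2]
      exact c₂.isBas hβ₂)
  rw [hH2]
  refine tr2_red hn' c₂.T' c₂.TE c₂.q c₂.hq c₂.kq ?_
  rw [hη₂, ← AddMonoidHom.comp_apply, ← omap2_comp, ← AddMonoidHom.comp_apply, ← omap2_comp]
  have e3 : c₂.q.comp H = h'.comp c₁.q := RingHom.ext hH1
  have e4 : (algebraMap B₂ c₂.B').comp h = h'.comp (algebraMap B₁ c₁.B') := RingHom.ext fun b => (hh' b).symm
  rw [e3, e4, omap2_comp, omap2_comp, AddMonoidHom.comp_apply, AddMonoidHom.comp_apply, hη₁]

end cmp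

section main

variable {p n : ℕ} [hp : Fact p.Prime] {R A B : Type u} [CommRing R] [CommRing A] [Algebra R A] [Algebra.Smooth R A]
  [CommRing B] [Algebra R B] [Algebra A B] [IsScalarTower R A B] {g : A} {T : Tor p n A}

/-- Existence of charts with integrality of the trace of two-forms. -/
theorem Cov.exists_ch' (hn : 0 < n) (T : Tor p n A) (hB : Cov p R A B g) :
    ∃ c : Ch T B, c.g = g ∧ ∀ η : Om2 B, ∃ (η' : Om2 c.E) (ω : Om2 A), omap2 c.q η' = omap2 (algebraMap B c.B') η ∧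
      omap2 (algebraMap A c.A') ω = tr2 c.T'.fr c.TE.fr η' := by
  have hg : g ∈ nonZeroDivisors A := mem_nzd T hB.nzd
  have _ : Algebra.Etale A (Localization.Away g) := Algebra.Etale.of_isLocalizationAway g
  obtain ⟨T', hT'⟩ := exists_tor_etale T (algebraMap A (Localization.Away g))
    (RingHom.etale_algebraMap.2 inferInstance)
  obtain ⟨e, -, he⟩ := hB.exists_chE' hn T hg T' hT'
  exact ⟨e.toCh hg hT', rfl, he⟩

/-- The trace is unique. -/
theorem IsTr.unique (hn : 0 < n) (hB : Cov p R A B g) {η : Om2 B} {ω ω' : Om2 A} (h : IsTr T B η ω)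
    (h' : IsTr T B η ω') : ω = ω' := by
  obtain ⟨c, ηc, hηc, hc⟩ := h
  obtain ⟨c', ηc', hηc', hc'⟩ := h'
  have hB' := (hB.mul (nzd_mod hn T c.hg)).mul (nzd_mod hn T c'.hg)
  obtain ⟨c₂, hc₂, he₂⟩ := hB'.exists_ch' hn T
  obtain ⟨η₂, -, hη₂, -⟩ := he₂ η
  obtain ⟨m, β, hβ⟩ := hB.bas
  have hid : Cpt T T (RingHom.id A) := ⟨fun _ => rfl, fun _ => rfl⟩
  have hu0 : IsUnit (algebraMap A c₂.A' (g * c.g * c'.g)) := by
    rw [← hc₂]
    exact IsLocalization.Away.algebraMap_isUnit _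
  rw [map_mul, map_mul] at hu0
  have hu : IsUnit (algebraMap A c₂.A' (RingHom.id A c.g)) :=
    isUnit_of_mul_isUnit_right (isUnit_of_mul_isUnit_left hu0)
  have hu' : IsUnit (algebraMap A c₂.A' (RingHom.id A c'.g)) := isUnit_of_mul_isUnit_right hu0
  have hη₂' : omap2 c₂.q η₂ = omap2 (algebraMap B c₂.B') (omap2 (RingHom.id B) η) := by
    rw [omap2_id]
    exact hη₂
  have e1 := cmp_tr c c₂ hid (h := RingHom.id B) (fun _ => rfl) hu hn β hβ hβ η ηc hηc η₂ hη₂'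
  have e2 := cmp_tr c' c₂ hid (h := RingHom.id B) (fun _ => rfl) hu' hn β hβ hβ η ηc' hηc' η₂ hη₂'
  apply omap2_inj c₂.cpt c₂.injective
  have e3 : ∀ (c₀ : Ch T B) (hu₀ : IsUnit (algebraMap A c₂.A' (RingHom.id A c₀.g))) (ω₀ : Om2 A),
      omap2 (algebraMap A c₂.A') ω₀ = omap2 (mapA c₀ c₂ hu₀) (omap2 (algebraMap A c₀.A') ω₀) := by
    intro c₀ hu₀ ω₀
    rw [← AddMonoidHom.comp_apply, ← omap2_comp, mapA_comp]
    rfl
  rw [e3 c hu, e3 c' hu', hc, hc', map_nsmul, map_nsmul, e1, e2]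

/-- Existence of the trace. -/
theorem exists_TR' (hn : 0 < n) (T : Tor p n A) (hB : Cov p R A B g) :
    ∃ TR : Om2 B →+ Om2 A, (∀ η, IsTr T B η (TR η)) ∧ (∀ η, p • TR η = 0) ∧
      ∀ (a : A) (η : Om2 B), TR (algebraMap A B a • η) = a • TR η := by
  obtain ⟨c, -, hc⟩ := hB.exists_ch' hn T
  choose η' τ hη' hτ using hc
  have hadd : ∀ x y, p ^ (n - 1) • τ (x + y) = p ^ (n - 1) • τ x + p ^ (n - 1) • τ y := by
    intro x y
    apply omap2_inj c.cpt c.injective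
    rw [map_add, map_nsmul, map_nsmul, map_nsmul, hτ, hτ, hτ, ← smul_add, ← map_add]
    refine tr2_red hn c.T' c.TE c.q c.hq c.kq ?_
    rw [map_add, hη', hη', hη', map_add]
  refine ⟨{ toFun := fun η => p ^ (n - 1) • τ η, map_zero' := ?_, map_add' := hadd },
    fun z => ⟨c, η' z, hη' z, ?_⟩, fun η => ?_, fun a η => ?_⟩
  · have := hadd 0 0
    rw [add_zero] at this
    exact left_eq_add.1 this
  · change omap2 _ (p ^ (n - 1) • τ z) = _
    rw [map_nsmul, hτ]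
  · change p • p ^ (n - 1) • τ η = 0
    rw [smul_smul, ← pow_succ', Nat.sub_add_cancel hn, nsmul_pn T.pn]
  · change p ^ (n - 1) • τ (algebraMap A B a • η) = a • p ^ (n - 1) • τ η
    apply omap2_inj c.cpt c.injective
    rw [omap2_smul, map_nsmul, map_nsmul, hτ, hτ]
    have h1 : algebraMap A c.A' a • p ^ (n - 1) • tr2 c.T'.fr c.TE.fr (η' η) =
        p ^ (n - 1) • tr2 c.T'.fr c.TE.fr (algebraMap c.A' c.E (algebraMap A c.A' a) • η' η) := by
      rw [smul_comm, tr2_apply, tr2_apply, map_smul, smul_eq_mul, ← Algebra.smul_def, map_smul, smul_eq_mul, mul_smul]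
    rw [h1]
    refine tr2_red hn c.T' c.TE c.q c.hq c.kq ?_
    rw [hη', omap2_smul, omap2_smul, hη', c.comm]

theorem IsTr.add (hn : 0 < n) (hB : Cov p R A B g) {η η' : Om2 B} {ω ω' : Om2 A} (h : IsTr T B η ω)
    (h' : IsTr T B η' ω') : IsTr T B (η + η') (ω + ω') := by
  obtain ⟨τ, hτ, -⟩ := exists_TR' hn T hB
  rw [h.unique hn hB (hτ η), h'.unique hn hB (hτ η'), ← map_add]
  exact hτ _

theorem IsTr.smul (hn : 0 < n) (hB : Cov p R A B g) (a : A) {η : Om2 B} {ω : Om2 A} (h : IsTr T B η ω) :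
    IsTr T B (algebraMap A B a • η) (a • ω) := by
  obtain ⟨τ, hτ, -, hs⟩ := exists_TR' hn T hB
  rw [h.unique hn hB (hτ η), ← hs]
  exact hτ _

/-- Naturality. -/
theorem IsTr.nat (hn : 0 < n) (hB : Cov p R A B g) {R₂ A₂ B₂ : Type u} [CommRing R₂] [CommRing A₂] [Algebra R₂ A₂]
    [Algebra.Smooth R₂ A₂] [CommRing B₂] [Algebra R₂ B₂] [Algebra A₂ B₂] [IsScalarTower R₂ A₂ B₂] {g₂ : A₂}
    {T₂ : Tor p n A₂} (hB₂ : Cov p R₂ A₂ B₂ g₂) {f : A →+* A₂} (hf : Cpt T T₂ f)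
    (hreg : ∀ a, a ∈ nonZeroDivisors A → f a ∈ nonZeroDivisors A₂)
    {h : B →+* B₂} (hh : ∀ a, h (algebraMap A B a) = algebraMap A₂ B₂ (f a))
    (hβ : ∀ (m : ℕ) (β : Fin m → B), IsBas p (algebraMap A B) β → IsBas p (algebraMap A₂ B₂) (fun i => h (β i)))
    {η : Om2 B} {ω : Om2 A} (hz : IsTr T B η ω) : IsTr T₂ B₂ (omap2 h η) (omap2 f ω) := by
  obtain ⟨c, η', hη', hc⟩ := hz
  have hB' := hB₂.mul (nzd_mod hn T₂ (hreg _ c.hg))
  obtain ⟨c₂, hc₂, he₂⟩ := hB'.exists_ch' hn T₂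
  obtain ⟨η₂, -, hη₂, -⟩ := he₂ (omap2 h η)
  obtain ⟨m, β, hβ'⟩ := hB.bas
  have hu0 : IsUnit (algebraMap A₂ c₂.A' (g₂ * f c.g)) := by
    rw [← hc₂]
    exact IsLocalization.Away.algebraMap_isUnit _
  rw [map_mul] at hu0
  have hu : IsUnit (algebraMap A₂ c₂.A' (f c.g)) := isUnit_of_mul_isUnit_right hu0
  refine ⟨c₂, η₂, hη₂, ?_⟩
  rw [← cmp_tr c c₂ hf hh hu hn β hβ' (hβ m β hβ') η η' hη' η₂ hη₂, ← map_nsmul, ← hc, ← AddMonoidHom.comp_apply,
    ← AddMonoidHom.comp_apply, ← omap2_comp, ← omap2_comp, mapA_comp]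

/-- At level `n`, the Cartier iterates of a symbol reduce to the symbol. -/
theorem red_it_sy (hn : 0 < n) {E C : Type u} [CommRing E] [CommRing C] (TE : Tor p n E)
    (q : E →+* C) (hq : Function.Surjective q) (kq : RingHom.ker q = Ideal.span {(p : E)}) (k : ℕ) (y : Tn E) :
    omap2 q (it TE k (sy y)) = omap2 q (sy y) := by
  obtain ⟨T₁, hT₁⟩ := exists_red hn TE q hq kq
  rw [it_nat TE T₁ q hT₁, omap2_sy, it_sy]

/-- The symbol trace and the trace of two-forms. -/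
theorem IsTau.isTr (hn : 0 < n) {z : Tn B} {ω : Om2 A} (h : IsTau T B z ω) :
    IsTr T B (sy z) (p ^ (n - 1) • ω) := by
  obtain ⟨c, hc⟩ := h
  obtain ⟨y, hy⟩ := c.exists_lift z
  refine ⟨c, sy y, ?_, ?_⟩
  · rw [omap2_sy, hy, ← omap2_sy]
  · rw [map_nsmul, hc, c.val_eq z y hy]
    exact tr2_red hn c.T' c.TE c.q c.hq c.kq (red_it_sy hn c.TE c.q c.hq c.kq n y)

/-- The trace of two-forms at level `n`. -/
theorem exists_TR (hn : 0 < n) (T : Tor p n A) (hB : Cov p R A B g) :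
    ∃ TR : Om2 B →+ Om2 A, (∀ η, IsTr T B η (TR η)) ∧ (∀ η, p • TR η = 0) ∧
      (∀ z ω, IsTau T B z ω → p ^ (n - 1) • ω = TR (sy z)) ∧
      ∀ (a : A) (η : Om2 B), TR (algebraMap A B a • η) = a • TR η := by
  obtain ⟨TR, h1, h2, h3⟩ := exists_TR' hn T hB
  exact ⟨TR, h1, h2, fun z ω h => (h.isTr hn).unique hn hB (h1 _), h3⟩

end main

section nonzero

theorem exists_omap_away {B B' : Type u} [CommRing B] [CommRing B'] [Algebra B B'] (G : B)
    [IsLocalization.Away G B'] (x : Ω[B'⁄ℤ]) : ∃ (k : ℕ) (y : Ω[B⁄ℤ]),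
      omap (algebraMap B B') y = algebraMap B B' G ^ k • x := by
  have hx : x ∈ Submodule.span B' (Set.range (KaehlerDifferential.D ℤ B')) := by
    rw [KaehlerDifferential.span_range_derivation]
    trivial
  induction hx using Submodule.span_induction with
  | mem x h =>
    obtain ⟨b', rfl⟩ := h
    obtain ⟨⟨b, ⟨_, m, rfl⟩⟩, hb⟩ := IsLocalization.surj (Submonoid.powers G) b'
    change b' * algebraMap B B' (G ^ m) = algebraMap B B' b at hb
    refine ⟨2 * m, G ^ m • KaehlerDifferential.D ℤ B b - b • KaehlerDifferential.D ℤ B (G ^ m), ?_⟩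
    rw [map_sub, omap_smul, omap_smul, omap_D, omap_D, ← hb, Derivation.leibniz, map_pow]
    rw [smul_add, smul_smul, smul_smul, two_mul, pow_add]
    rw [mul_comm b']
    abel
  | zero => exact ⟨0, 0, by rw [map_zero, smul_zero]⟩
  | add x y _ _ hx hy =>
    obtain ⟨k, x', hx⟩ := hx
    obtain ⟨l, y', hy⟩ := hy
    refine ⟨k + l, G ^ l • x' + G ^ k • y', ?_⟩
    rw [map_add, omap_smul, omap_smul, hx, hy, smul_add, smul_smul, smul_smul, map_pow, map_pow, ← pow_add, ← pow_add,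
      add_comm l k]
  | smul a x _ hx =>
    obtain ⟨k, x', hx⟩ := hx
    obtain ⟨⟨b, ⟨_, m, rfl⟩⟩, hb⟩ := IsLocalization.surj (Submonoid.powers G) a
    change a * algebraMap B B' (G ^ m) = algebraMap B B' b at hb
    refine ⟨k + m, b • x', ?_⟩
    rw [omap_smul, hx, ← hb, smul_smul, smul_smul, pow_add, map_pow]
    congr 1
    ring

theorem exists_omap2_away {B B' : Type u} [CommRing B] [CommRing B'] [Algebra B B'] (G : B)
    [IsLocalization.Away G B'] (x : Om2 B') : ∃ (k : ℕ) (y : Om2 B),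
      omap2 (algebraMap B B') y = algebraMap B B' G ^ k • x := by
  induction x using om2_induction with
  | h0 => exact ⟨0, 0, by rw [map_zero, smul_zero]⟩
  | hadd x y hx hy =>
    obtain ⟨k, x', hx⟩ := hx
    obtain ⟨l, y', hy⟩ := hy
    refine ⟨k + l, G ^ l • x' + G ^ k • y', ?_⟩
    rw [map_add, omap2_smul, omap2_smul, hx, hy, smul_add, smul_smul, smul_smul, map_pow, map_pow, ← pow_add,
      ← pow_add, add_comm l k]
  | hw x y =>
    obtain ⟨k, x', hx⟩ := exists_omap_away (B := B) G x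
    obtain ⟨l, y', hy⟩ := exists_omap_away (B := B) G y
    refine ⟨k + l, w x' y', ?_⟩
    rw [omap2_w, hx, hy, w_smul_left, w_smul_right, smul_smul, ← pow_add]

variable {p n : ℕ} [hp : Fact p.Prime] {R A B : Type u} [CommRing R] [CommRing A] [Algebra R A] [Algebra.Smooth R A]
  [CommRing B] [Algebra R B] [Algebra A B] [IsScalarTower R A B] {g : A} {T : Tor p n A}

/-- The trace of two-forms does not vanish. -/
theorem exists_ne_zero (hn : 0 < n) (hB : Cov p R A B g) [Nontrivial B] : ∃ η ω, IsTr T B η ω ∧ ω ≠ 0 := by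
  obtain ⟨c, hcg, hc⟩ := hB.exists_ch' hn T
  obtain ⟨m, β, hβ⟩ := hB.bas
  -- `B'` is nontrivial
  have hreg : ∀ b : B, algebraMap A B g * b = 0 → b = 0 := by
    intro b hb
    obtain ⟨a, rfl⟩ := hβ.span b
    rw [Finset.mul_sum] at hb
    have h1 := hβ.ind (fun i => g * a i) (by
      rw [← hb]
      refine Finset.sum_congr rfl fun i _ => ?_
      rw [map_mul, mul_assoc])
    refine Finset.sum_eq_zero fun i _ => ?_
    obtain ⟨d, hd⟩ := h1 i
    obtain ⟨d', hd'⟩ := hB.nzd _ _ hd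
    rw [hd', map_mul, map_natCast, hB.pB, zero_mul, zero_mul]
  have hreg' : ∀ (k : ℕ) (b : B), algebraMap A B g ^ k * b = 0 → b = 0 := by
    intro k
    induction k with
    | zero => intro b hb; rwa [pow_zero, one_mul] at hb
    | succ k ih =>
      intro b hb
      rw [pow_succ', mul_assoc] at hb
      exact ih _ (hreg _ hb)
  have hB' : Nontrivial c.B' := by
    refine nontrivial_of_ne (algebraMap B c.B' 1) 0 fun h => ?_
    obtain ⟨⟨_, k, rfl⟩, hk⟩ := (IsLocalization.map_eq_zero_iff (Submonoid.powers (algebraMap A B c.g)) c.B' _).1 h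
    rw [hcg] at hk
    exact one_ne_zero (hreg' k 1 hk)
  have hE : Nontrivial c.E := c.q.domain_nontrivial
  have hA' : Nontrivial c.A' := (algebraMap c.A' c.E).domain_nontrivial
  -- an element of trace one
  obtain ⟨e, he⟩ : ∃ e : c.E, Algebra.trace c.A' c.E e = 1 := by
    let b := Module.Free.chooseBasis c.A' c.E
    have hne : Nonempty (Module.Free.ChooseBasisIndex c.A' c.E) := b.index_nonempty
    obtain ⟨i⟩ := hne
    obtain ⟨x, hx⟩ := (Groth.Agent.S2733.bijective_traceForm_of_etale (A := c.A') (B := c.E)).2 (b.coord i)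
    refine ⟨x * b i, ?_⟩
    rw [← Algebra.traceForm_apply, hx, b.coord_apply, b.repr_self, Finsupp.single_eq_same]
  obtain ⟨k, η, hη⟩ := exists_omap2_away (B := B) (algebraMap A B c.g) (omap2 c.q (e • vol c.TE.fr))
  obtain ⟨η', ω, h1, h2⟩ := hc η
  refine ⟨η, p ^ (n - 1) • ω, ⟨c, η', h1, by rw [map_nsmul, h2]⟩, fun h0 => ?_⟩
  have h3 : omap2 c.q η' = omap2 c.q ((algebraMap c.A' c.E (algebraMap A c.A' c.g) ^ k * e) • vol c.TE.fr) := by
    rw [h1, hη, mul_smul, omap2_smul c.q (algebraMap c.A' c.E (algebraMap A c.A' c.g) ^ k), map_pow, c.comm]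
  have h4 := tr2_red hn c.T' c.TE c.q c.hq c.kq h3
  rw [← h2, ← map_nsmul, h0, map_zero, tr2_smul_vol, ← map_pow, ← Algebra.smul_def, map_smul, he] at h4
  have h5 : (p : c.A') ^ (n - 1) * algebraMap A c.A' c.g ^ k = 0 := by
    have h6 := congrArg (det c.T'.fr) h4
    rw [map_zero, map_nsmul, map_smul, det_vol, smul_eq_mul, mul_one, smul_eq_mul, mul_one, nsmul_eq_mul,
      Nat.cast_pow] at h6
    exact h6.symm
  have hu : IsUnit (algebraMap A c.A' c.g ^ k) := (IsLocalization.Away.algebraMap_isUnit _).pow k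
  rw [hu.mul_left_eq_zero] at h5
  obtain ⟨b, hb⟩ := c.T'.flat (n - 1) (by omega) 1 (by rw [h5, zero_mul])
  have h7 : n - (n - 1) = 1 := by omega
  rw [h7, pow_one] at hb
  have h8 : IsUnit (p : c.A') := IsUnit.of_mul_eq_one _ hb.symm
  have h9 : IsNilpotent (p : c.A') := ⟨n, c.T'.pn⟩
  exact h8.not_isNilpotent h9

theorem TR_ne_zero (hn : 0 < n) (hB : Cov p R A B g) [Nontrivial B] {TR : Om2 B →+ Om2 A}
    (h : ∀ η, IsTr T B η (TR η)) : TR ≠ 0 := by
  obtain ⟨η, ω, h1, h2⟩ := exists_ne_zero (T := T) hn hB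
  intro h0
  apply h2
  rw [h1.unique hn hB (h η), h0]
  rfl

end nonzero

end K961
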