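import Groth.Agent.EtCoh.K56.TorS
import Groth.Agent.EtCoh.K720.Sym

/-!
# Invariance of the logarithmic forms under the Cartier operator of a toric chart

`T.S^[n]` kills exact forms (`p^n = 0`), hence `T.S^[n]` is defined on `Q2`; for symbols
`p • T.S^[n] (sy z) = p • T.S^[n+1] (sy z)`.
-/

set_option autoImplicit false
set_option linter.unusedSectionVars false
universe u v

noncomputable section

namespace K961.Inv

open KaehlerDifferential K611.Gam K611.Gam2 K611.Frame K611.Top K720.Sym K56.T4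

variable {p n : ℕ} [hp : Fact p.Prime] {A : Type u} [CommRing A] (T : Tor p n A)

theorem nsmul_pn {M : Type v} [AddCommGroup M] [Module A M] (h : (p : A) ^ n = 0) (x : M) : p ^ n • x = 0 := by
  rw [← Nat.cast_smul_eq_nsmul A, Nat.cast_pow, h, zero_smul]

theorem iter_d1 (k : ℕ) (η : Ω[A⁄ℤ]) : ∃ η' : Ω[A⁄ℤ], T.S^[k] (d1 η) = p ^ k • d1 η' := by
  induction k with
  | zero => exact ⟨η, by rw [pow_zero, one_smul]; rfl⟩
  | succ k ih =>
    obtain ⟨η', h⟩ := ih
    obtain ⟨η'', h'⟩ := T.S_d1 η'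
    refine ⟨η'', ?_⟩
    rw [Function.iterate_succ_apply', h, map_nsmul, h', smul_smul, pow_succ]

/-- `S^n` kills exact forms. -/
theorem iter_exact (k : ℕ) (hk : n ≤ k) (η : Ω[A⁄ℤ]) : T.S^[k] (d1 η) = 0 := by
  obtain ⟨η', h⟩ := iter_d1 T k η
  rw [h]
  have : k = n + (k - n) := by omega
  rw [this, pow_add, mul_smul, nsmul_pn T.pn]

/-- The iterates of `S` as additive maps. -/
def it (k : ℕ) : Om2 A →+ Om2 A where
  toFun := T.S^[k]
  map_zero' := by
    induction k with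
    | zero => rfl
    | succ k ih => rw [Function.iterate_succ_apply', ih, map_zero]
  map_add' x y := by
    induction k with
    | zero => rfl
    | succ k ih => rw [Function.iterate_succ_apply', Function.iterate_succ_apply', Function.iterate_succ_apply', ih,
        map_add]

theorem it_apply (k : ℕ) (x : Om2 A) : it T k x = T.S^[k] x := rfl

theorem it_succ (k : ℕ) (x : Om2 A) : it T (k + 1) x = T.S (it T k x) := Function.iterate_succ_apply' _ _ _

theorem it_succ' (k : ℕ) (x : Om2 A) : it T (k + 1) x = it T k (T.S x) := rfl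

theorem it_cl2 {k : ℕ} (hk : n ≤ k) {x y : Om2 A} (h : cl2 x = cl2 y) : it T k x = it T k y := by
  rw [← sub_eq_zero, ← cl2_sub, cl2_eq_zero] at h
  obtain ⟨η, h⟩ := h
  rw [← sub_eq_zero, ← map_sub, ← h]
  exact iter_exact T k hk η

/-- The divided Frobenius on one-forms. -/
def psi (η : Ω[A⁄ℤ]) : Ω[A⁄ℤ] :=
  (T.φ (T.fr.b.repr η 0) * T.fr.x 0 ^ (p - 1)) • D ℤ A (T.fr.x 0) +
    (T.φ (T.fr.b.repr η 1) * T.fr.x 1 ^ (p - 1)) • D ℤ A (T.fr.x 1)

theorem omap_φ (η : Ω[A⁄ℤ]) : omap T.φ η = (p : A) • psi T η := by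
  conv_lhs => rw [expand2 T.fr η]
  rw [map_add, omap_smul, omap_smul, omap_D, omap_D, T.φx, T.φx, Derivation.leibniz_pow, Derivation.leibniz_pow]
  unfold psi
  rw [smul_add, ← Nat.cast_smul_eq_nsmul A, ← Nat.cast_smul_eq_nsmul A]
  simp only [smul_smul]
  congr 2 <;> ring

/-- The divided Frobenius on two-forms. -/
def psi2 (ω : Om2 A) : Om2 A :=
  T.φ (det T.fr ω) • ((T.fr.x 0 ^ (p - 1) * T.fr.x 1 ^ (p - 1)) • vol T.fr)

theorem S_psi2 (ω : Om2 A) : T.S (psi2 T ω) = ω := by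
  have h := hp.out.pos
  unfold psi2
  rw [T.S_smul, T.S_mono _ _ (by omega) (by omega), if_pos ⟨rfl, rfl⟩, ← eq_det]

theorem psi2_w (x y : Ω[A⁄ℤ]) : psi2 T (w x y) = w (psi T x) (psi T y) := by
  unfold psi2 psi
  rw [det_w, w_add_left, w_add_right, w_add_right]
  simp only [w_smul_left, w_smul_right, w_self, smul_zero, zero_add, add_zero]
  rw [w_swap (D ℤ A (T.fr.x 0)) (D ℤ A (T.fr.x 1)), map_sub, map_mul, map_mul, sub_smul2]
  simp only [smul_smul, smul_neg]
  rw [← sub_eq_add_neg]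
  change _ = _ • vol T.fr - _ • vol T.fr
  congr 2 <;> ring

theorem psi2_add (x y : Om2 A) : psi2 T (x + y) = psi2 T x + psi2 T y := by
  unfold psi2
  rw [map_add, map_add, add_smul]

/-- `p ψ(dlog u) = p (dlog u + dl)`. -/
theorem exists_psi_dl (u : Aˣ) : ∃ l : A, (p : A) • psi T (dl u) = (p : A) • (dl u + D ℤ A l) := by
  obtain ⟨b, hb⟩ := T.hφ u.val
  let U : Aˣ := Units.map T.φ.toMonoidHom u * (u ^ p)⁻¹
  have hU : (U : A) = 1 + p * (b * ((u ^ p)⁻¹ : Aˣ).val) := by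
    have h1 : (U : A) = T.φ u.val * ((u ^ p)⁻¹ : Aˣ).val := rfl
    have h2 : u.val ^ p * ((u ^ p)⁻¹ : Aˣ).val = 1 := by
      rw [← Units.val_pow_eq_pow_val, Units.mul_inv]
    rw [h1, hb, add_mul, h2]
    ring
  obtain ⟨l, hl⟩ := exists_log p n T.pn U _ hU
  refine ⟨l, ?_⟩
  rw [← omap_φ, omap_dl]
  have h3 : Units.map T.φ.toMonoidHom u = U * u ^ p := by
    rw [inv_mul_cancel_right]
  rw [h3, dl_mul, dl_pow, ← hl, Derivation.leibniz, Derivation.map_natCast, smul_zero, add_zero,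
    smul_add, ← Nat.cast_smul_eq_nsmul A, add_comm]

theorem cl2_psi2_sb (u v : Aˣ) : cl2 (p • psi2 T (sy (sb u v))) = cl2 (p • sy (sb u v)) := by
  obtain ⟨l, hl⟩ := exists_psi_dl T u
  obtain ⟨l', hl'⟩ := exists_psi_dl T v
  have h1 : p • psi2 T (sy (sb u v)) = p • w (dl u + D ℤ A l) (dl v + D ℤ A l') := by
    rw [sy_sb, psi2_w, ← Nat.cast_smul_eq_nsmul A, ← Nat.cast_smul_eq_nsmul A, ← w_smul_left, hl, w_smul_left,
      ← w_smul_right, hl', w_smul_right]
  rw [h1, sy_sb]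
  have h2 : w (dl u + D ℤ A l) (dl v + D ℤ A l') = w (dl u) (dl v) + w (dl u) (D ℤ A l') + w (D ℤ A l) (dl v) +
      w (D ℤ A l) (D ℤ A l') := by
    rw [w_add_left, w_add_right, w_add_right]
    abel
  have h3 : ∀ (a b : Om2 A), cl2 b = 0 → cl2 (p • (a + b)) = cl2 (p • a) := by
    intro a b hb
    rw [smul_add, cl2_add]
    have : cl2 (p • b) = p • cl2 b := map_nsmul (cl2Hom A) p b
    rw [this, hb, smul_zero, add_zero]
  rw [h2, h3 _ _ (cl2_w_D_left l _ (d1_D l')), h3 _ _ (cl2_w_D_left l _ (d1_dl v)),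
    h3 _ _ (cl2_w_D_right l' _ (d1_dl u))]

theorem psi2_zero : psi2 T 0 = 0 := by
  unfold psi2
  rw [map_zero, map_zero, zero_smul]

/-- The Cartier operator fixes the logarithmic forms, up to exact forms and `p`-torsion. -/
theorem cl2_psi2_sy (z : Tn A) : cl2 (p • psi2 T (sy z)) = cl2 (p • sy z) := by
  induction z using tn_induction with
  | h0 => rw [map_zero, psi2_zero]
  | hadd x y hx hy => rw [map_add, psi2_add, smul_add, smul_add, cl2_add, cl2_add, hx, hy]
  | hs u v => exact cl2_psi2_sb T u v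

/-- Invariance: `p S^k (sy z) = p S^(k+1) (sy z)` for `k ≥ n - 1`. -/
theorem inv (k : ℕ) (hk : n ≤ k + 1) (z : Tn A) : p • it T k (sy z) = p • it T (k + 1) (sy z) := by
  have h := it_cl2 T hk (cl2_psi2_sy T z)
  rw [map_nsmul, map_nsmul, it_succ', S_psi2] at h
  exact h

end K961.Inv
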