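import Groth.Agent.EtCoh.K961.Prod

/-!
# The symbol trace of a generically étale cover: existence, uniqueness, naturality, invariance
-/

set_option autoImplicit false
set_option linter.unusedSectionVars false
universe u v w'

noncomputable section

open scoped TensorProduct

namespace K961

open KaehlerDifferential K611.Gam K611.Gam2 K611.Frame K611.Top K720.Sym K56.T4 K961.Inv

theorem omap2_inj {p n n' : ℕ} [hp : Fact p.Prime] {A A' : Type u} [CommRing A] [CommRing A'] {T : Tor p n A}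
    {T' : Tor p n' A'} {f : A →+* A'} (h : Cpt T T' f) (hf : Function.Injective f) {ω ω' : Om2 A}
    (e : omap2 f ω = omap2 f ω') : ω = ω' := by
  have h1 := congrArg (det T'.fr) e
  rw [det_nat T T' f h, det_nat T T' f h] at h1
  rw [eq_det T.fr ω, eq_det T.fr ω', hf h1]

namespace Ch

variable {p n : ℕ} [hp : Fact p.Prime] {A : Type u} [CommRing A] {T : Tor p n A} {B : Type u} [CommRing B]
  [Algebra A B] (c : Ch T B)

theorem injective : Function.Injective (algebraMap A c.A') :=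
  IsLocalization.injective c.A' (M := Submonoid.powers c.g) (by
    rintro _ ⟨k, rfl⟩
    exact pow_mem c.hg k)

theorem isBas {ι : Type v} [Fintype ι] {β : ι → B} (hβ : IsBas p (algebraMap A B) β) :
    IsBas p (c.q.comp (algebraMap c.A' c.E)) (fun i => algebraMap B c.B' (β i)) :=
  hβ.away _ c.comm c.g

end Ch

section cmp

variable {p n n' : ℕ} [hp : Fact p.Prime] {A₁ A₂ B₁ B₂ : Type u} [CommRing A₁] [CommRing A₂] [CommRing B₁] [CommRing B₂]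
  [Algebra A₁ B₁] [Algebra A₂ B₂] {T₁ : Tor p n A₁} {T₂ : Tor p n' A₂} (c₁ : Ch T₁ B₁) (c₂ : Ch T₂ B₂)
  {f : A₁ →+* A₂} (hf : Cpt T₁ T₂ f) {h : B₁ →+* B₂} (hh : ∀ a, h (algebraMap A₁ B₁ a) = algebraMap A₂ B₂ (f a))
  (hu : IsUnit (algebraMap A₂ c₂.A' (f c₁.g)))

/-- The induced map of principal opens. -/
def mapA : c₁.A' →+* c₂.A' := IsLocalization.Away.lift (S := c₁.A') (g := (algebraMap A₂ c₂.A').comp f) c₁.g hu

theorem mapA_alg (a : A₁) : mapA c₁ c₂ hu (algebraMap A₁ c₁.A' a) = algebraMap A₂ c₂.A' (f a) :=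
  IsLocalization.Away.lift_eq _ _ _

theorem mapA_comp : (mapA c₁ c₂ hu).comp (algebraMap A₁ c₁.A') = (algebraMap A₂ c₂.A').comp f :=
  RingHom.ext (mapA_alg c₁ c₂ hu)

include hf in
theorem mapA_cpt : Cpt c₁.T' c₂.T' (mapA c₁ c₂ hu) where
  x i := by rw [← c₁.cpt.x, mapA_alg, hf.x, c₂.cpt.x]
  φ := by
    have : (mapA c₁ c₂ hu).comp c₁.T'.φ = c₂.T'.φ.comp (mapA c₁ c₂ hu) := by
      refine IsLocalization.ringHom_ext (Submonoid.powers c₁.g) (RingHom.ext fun a => ?_)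
      change mapA c₁ c₂ hu (c₁.T'.φ (algebraMap A₁ c₁.A' a)) = c₂.T'.φ (mapA c₁ c₂ hu (algebraMap A₁ c₁.A' a))
      rw [← c₁.cpt.φ, mapA_alg, mapA_alg, hf.φ, c₂.cpt.φ]
    exact fun a => DFunLike.congr_fun this a

include hh hu in
theorem exists_mapB : ∃ h' : c₁.B' →+* c₂.B', ∀ b, h' (algebraMap B₁ c₁.B' b) = algebraMap B₂ c₂.B' (h b) := by
  refine ⟨IsLocalization.Away.lift (S := c₁.B') (g := (algebraMap B₂ c₂.B').comp h) (algebraMap A₁ B₁ c₁.g) ?_,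
    fun b => IsLocalization.Away.lift_eq _ _ _⟩
  change IsUnit (algebraMap B₂ c₂.B' (h (algebraMap A₁ B₁ c₁.g)))
  rw [hh, ← c₂.comm]
  exact (hu.map _).map _

include hf hh in
/-- Comparison of charts. -/
theorem cmp_tr2 {ι : Type v} [Fintype ι] (β : ι → B₁) (hβ₁ : IsBas p (algebraMap A₁ B₁) β)
    (hβ₂ : IsBas p (algebraMap A₂ B₂) (fun i => h (β i))) (k : ℕ) (hk : n' ≤ k) (z : Tn B₁) (y₁ : Tn c₁.E)
    (hy₁ : tmap c₁.q y₁ = tmap (algebraMap B₁ c₁.B') z) (y₂ : Tn c₂.E)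
    (hy₂ : tmap c₂.q y₂ = tmap (algebraMap B₂ c₂.B') (tmap h z)) :
    omap2 (mapA c₁ c₂ hu) (tr2 c₁.T'.fr c₁.TE.fr (it c₁.TE k (sy y₁))) =
      tr2 c₂.T'.fr c₂.TE.fr (it c₂.TE k (sy y₂)) := by
  obtain ⟨h', hh'⟩ := exists_mapB c₁ c₂ hh hu
  have e1 : h'.comp (c₁.q.comp (algebraMap c₁.A' c₁.E)) =
      c₂.q.comp ((algebraMap c₂.A' c₂.E).comp (mapA c₁ c₂ hu)) := by
    refine IsLocalization.ringHom_ext (Submonoid.powers c₁.g) (RingHom.ext fun a => ?_)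
    change h' (c₁.q (algebraMap c₁.A' c₁.E (algebraMap A₁ c₁.A' a))) =
      c₂.q (algebraMap c₂.A' c₂.E (mapA c₁ c₂ hu (algebraMap A₁ c₁.A' a)))
    rw [c₁.comm, hh', mapA_alg, c₂.comm, hh]
  refine key (mapA_cpt c₁ c₂ hf hu) c₁.cptE c₂.cptE c₁.q c₁.hq c₁.kq c₂.q c₂.hq c₂.kq h'
    (fun a => DFunLike.congr_fun e1 a) _ (c₁.isBas hβ₁) ?_ k hk y₁ y₂ ?_
  · have e2 : (fun i => h' (algebraMap B₁ c₁.B' (β i))) = fun i => algebraMap B₂ c₂.B' (h (β i)) :=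
      funext fun i => hh' _
    rw [e2]
    exact c₂.isBas hβ₂
  · rw [hy₁, hy₂, ← AddMonoidHom.comp_apply, ← AddMonoidHom.comp_apply, ← tmap_comp, ← tmap_comp]
    congr 2
    exact RingHom.ext fun b => (hh' b).symm

end cmp

section cmpval

variable {p n : ℕ} [hp : Fact p.Prime] {A₁ A₂ B₁ B₂ : Type u} [CommRing A₁] [CommRing A₂] [CommRing B₁] [CommRing B₂]
  [Algebra A₁ B₁] [Algebra A₂ B₂] {T₁ : Tor p n A₁} {T₂ : Tor p n A₂} (c₁ : Ch T₁ B₁) (c₂ : Ch T₂ B₂)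
  {f : A₁ →+* A₂} (hf : Cpt T₁ T₂ f) {h : B₁ →+* B₂} (hh : ∀ a, h (algebraMap A₁ B₁ a) = algebraMap A₂ B₂ (f a))
  (hu : IsUnit (algebraMap A₂ c₂.A' (f c₁.g)))

include hf hh in
theorem cmp_val {ι : Type v} [Fintype ι] (β : ι → B₁) (hβ₁ : IsBas p (algebraMap A₁ B₁) β)
    (hβ₂ : IsBas p (algebraMap A₂ B₂) (fun i => h (β i))) (z : Tn B₁) :
    omap2 (mapA c₁ c₂ hu) (c₁.val z) = c₂.val (tmap h z) := by
  obtain ⟨y₁, hy₁⟩ := c₁.exists_lift z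
  obtain ⟨y₂, hy₂⟩ := c₂.exists_lift (tmap h z)
  rw [c₁.val_eq z y₁ hy₁, c₂.val_eq _ y₂ hy₂]
  exact cmp_tr2 c₁ c₂ hf hh hu β hβ₁ hβ₂ n le_rfl z y₁ hy₁ y₂ hy₂

end cmpval

section main

variable {p n : ℕ} [hp : Fact p.Prime] {R A B : Type u} [CommRing R] [CommRing A] [Algebra R A] [Algebra.Smooth R A]
  [CommRing B] [Algebra R B] [Algebra A B] [IsScalarTower R A B] {g : A}

/-- Shrinking the étale locus. -/
theorem Cov.mul (hB : Cov p R A B g) {g' : A} (h : ∀ a c : A, g' * a = p * c → ∃ d, a = p * d) :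
    Cov p R A B (g * g') where
  nil := hB.nil
  pB := hB.pB
  nzd a c hac := by
    obtain ⟨d, hd⟩ := hB.nzd (g' * a) c (by rw [← hac]; ring)
    exact h a d hd
  bas := hB.bas
  sm := hB.sm
  unr ω := by rw [map_mul, mul_comm, mul_smul, hB.unr, smul_zero]

/-- Regular elements are regular modulo `p`. -/
theorem nzd_mod (hn : 0 < n) (T : Tor p n A) {g : A} (hg : g ∈ nonZeroDivisors A) (a c : A) (h : g * a = p * c) :
    ∃ d, a = p * d := by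
  have h1 : (p : A) ^ (n - 1) * a = 0 := by
    have h2 : ((p : A) ^ (n - 1) * a) * g = 0 := by
      calc ((p : A) ^ (n - 1) * a) * g = (p : A) ^ (n - 1) * (g * a) := by ring
        _ = (p : A) ^ (n - 1 + 1) * c := by rw [h]; ring
        _ = 0 := by rw [Nat.sub_add_cancel hn, T.pn, zero_mul]
    exact (mem_nonZeroDivisors_iff_right.1 hg) _ h2
  obtain ⟨b, hb⟩ := T.flat (n - 1) (by omega) a h1
  have : n - (n - 1) = 1 := by omega
  rw [this, pow_one] at hb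
  exact ⟨b, hb⟩

variable {T : Tor p n A}

/-- The symbol trace is unique. -/
theorem IsTau.unique (hn : 0 < n) (hB : Cov p R A B g) {z : Tn B} {ω ω' : Om2 A} (h : IsTau T B z ω)
    (h' : IsTau T B z ω') : ω = ω' := by
  obtain ⟨c, hc⟩ := h
  obtain ⟨c', hc'⟩ := h'
  have hB' := (hB.mul (nzd_mod hn T c.hg)).mul (nzd_mod hn T c'.hg)
  obtain ⟨c₂, hc₂, -⟩ := hB'.exists_ch hn T
  obtain ⟨m, β, hβ⟩ := hB.bas
  have hid : Cpt T T (RingHom.id A) := ⟨fun _ => rfl, fun _ => rfl⟩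
  have hu0 : IsUnit (algebraMap A c₂.A' (g * c.g * c'.g)) := by
    rw [← hc₂]
    exact IsLocalization.Away.algebraMap_isUnit _
  rw [map_mul, map_mul] at hu0
  have hu : IsUnit (algebraMap A c₂.A' (RingHom.id A c.g)) :=
    isUnit_of_mul_isUnit_right (isUnit_of_mul_isUnit_left hu0)
  have hu' : IsUnit (algebraMap A c₂.A' (RingHom.id A c'.g)) := isUnit_of_mul_isUnit_right hu0
  have e1 := cmp_val c c₂ hid (h := RingHom.id B) (fun _ => rfl) hu β hβ hβ z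
  have e2 := cmp_val c' c₂ hid (h := RingHom.id B) (fun _ => rfl) hu' β hβ hβ z
  apply omap2_inj c₂.cpt c₂.injective
  have e3 : ∀ (c₀ : Ch T B) (hu₀ : IsUnit (algebraMap A c₂.A' (RingHom.id A c₀.g))) (ω₀ : Om2 A),
      omap2 (algebraMap A c₂.A') ω₀ = omap2 (mapA c₀ c₂ hu₀) (omap2 (algebraMap A c₀.A') ω₀) := by
    intro c₀ hu₀ ω₀
    rw [← AddMonoidHom.comp_apply, ← omap2_comp, mapA_comp]
    rfl
  rw [e3 c hu, e3 c' hu', hc, hc', e1, e2]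

/-- Existence of the symbol trace. -/
theorem exists_tau (hn : 0 < n) (T : Tor p n A) (hB : Cov p R A B g) : ∃ τ : Tn B →+ Om2 A, ∀ z, IsTau T B z (τ z) := by
  obtain ⟨c, -, hc⟩ := hB.exists_ch hn T
  choose τ hτ using hc
  refine ⟨{ toFun := τ, map_zero' := ?_, map_add' := fun x y => ?_ }, fun z => ⟨c, hτ z⟩⟩
  · apply omap2_inj c.cpt c.injective
    rw [hτ, map_zero, map_zero]
  · apply omap2_inj c.cpt c.injective
    rw [hτ, map_add, map_add, hτ, hτ]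

theorem IsTau.add (hn : 0 < n) (hB : Cov p R A B g) {z z' : Tn B} {ω ω' : Om2 A} (h : IsTau T B z ω)
    (h' : IsTau T B z' ω') : IsTau T B (z + z') (ω + ω') := by
  obtain ⟨τ, hτ⟩ := exists_tau hn T hB
  rw [h.unique hn hB (hτ z), h'.unique hn hB (hτ z'), ← map_add]
  exact hτ _

/-- Invariance under the Cartier operator, up to `p`-torsion. -/
theorem IsTau.inv {z : Tn B} {ω : Om2 A} (h : IsTau T B z ω) : p • T.S ω = p • ω := by
  obtain ⟨c, hc⟩ := h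
  apply omap2_inj c.cpt c.injective
  rw [map_nsmul, map_nsmul, ← S_nat T c.T' _ c.cpt, hc]
  obtain ⟨y, hy⟩ := c.exists_lift z
  rw [c.val_eq z y hy, ← tr2_S c.T' c.TE c.cptE, ← it_succ,
    ← map_nsmul (tr2 c.T'.fr c.TE.fr), ← map_nsmul (tr2 c.T'.fr c.TE.fr), Inv.inv c.TE n (by omega)]

/-- Naturality. -/
theorem IsTau.nat (hn : 0 < n) (hB : Cov p R A B g) {R₂ A₂ B₂ : Type u} [CommRing R₂] [CommRing A₂] [Algebra R₂ A₂]
    [Algebra.Smooth R₂ A₂] [CommRing B₂] [Algebra R₂ B₂] [Algebra A₂ B₂] [IsScalarTower R₂ A₂ B₂] {g₂ : A₂}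
    {T₂ : Tor p n A₂} (hB₂ : Cov p R₂ A₂ B₂ g₂) {f : A →+* A₂} (hf : Cpt T T₂ f)
    (hreg : ∀ a, a ∈ nonZeroDivisors A → f a ∈ nonZeroDivisors A₂)
    {h : B →+* B₂} (hh : ∀ a, h (algebraMap A B a) = algebraMap A₂ B₂ (f a))
    (hβ : ∀ (m : ℕ) (β : Fin m → B), IsBas p (algebraMap A B) β → IsBas p (algebraMap A₂ B₂) (fun i => h (β i)))
    {z : Tn B} {ω : Om2 A} (hz : IsTau T B z ω) : IsTau T₂ B₂ (tmap h z) (omap2 f ω) := by
  obtain ⟨c, hc⟩ := hz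
  have hB' := hB₂.mul (nzd_mod hn T₂ (hreg _ c.hg))
  obtain ⟨c₂, hc₂, -⟩ := hB'.exists_ch hn T₂
  obtain ⟨m, β, hβ'⟩ := hB.bas
  have hu0 : IsUnit (algebraMap A₂ c₂.A' (g₂ * f c.g)) := by
    rw [← hc₂]
    exact IsLocalization.Away.algebraMap_isUnit _
  rw [map_mul] at hu0
  have hu : IsUnit (algebraMap A₂ c₂.A' (f c.g)) := isUnit_of_mul_isUnit_right hu0
  refine ⟨c₂, ?_⟩
  rw [← cmp_val c c₂ hf hh hu β hβ' (hβ m β hβ') z, ← hc, ← AddMonoidHom.comp_apply, ← AddMonoidHom.comp_apply,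
    ← omap2_comp, ← omap2_comp, mapA_comp]

/-- Products. -/
theorem IsTau.prod (hn : 0 < n) {B₁ B₂ : Type u} [CommRing B₁] [CommRing B₂] [Algebra R B₁] [Algebra R B₂]
    [Algebra A B₁] [Algebra A B₂] [IsScalarTower R A B₁] [IsScalarTower R A B₂] {g₁ g₂ : A}
    (h₁ : Cov p R A B₁ g₁) (h₂ : Cov p R A B₂ g₂) {z : Tn (B₁ × B₂)} {ω₁ ω₂ : Om2 A}
    (e₁ : IsTau T B₁ (tmap (RingHom.fst B₁ B₂) z) ω₁) (e₂ : IsTau T B₂ (tmap (RingHom.snd B₁ B₂) z) ω₂) :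
    IsTau T (B₁ × B₂) z (ω₁ + ω₂) := by
  have hn1 : ∀ a c : A, g₁ * g₂ * a = p * c → ∃ d, a = p * d := (h₁.mul h₂.nzd).nzd
  have hg : g₁ * g₂ ∈ nonZeroDivisors A := mem_nzd T hn1
  let A' := Localization.Away (g₁ * g₂)
  have _ : Algebra.Etale A A' := Algebra.Etale.of_isLocalizationAway (g₁ * g₂)
  obtain ⟨T', hT'⟩ := exists_tor_etale T (algebraMap A A') (RingHom.etale_algebraMap.2 inferInstance)
  obtain ⟨c₁, hc₁⟩ := (h₁.mul h₂.nzd).exists_chE hn T hg T' hT'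
  have h₂' : Cov p R A B₂ (g₁ * g₂) := mul_comm g₂ g₁ ▸ h₂.mul h₁.nzd
  obtain ⟨c₂, hc₂⟩ := h₂'.exists_chE hn T hg T' hT'
  obtain ⟨e, he⟩ := ChE.exists_prod hg hT' c₁ c₂
  have u₁ : omap2 (algebraMap A A') ω₁ = c₁.v hg hT' (tmap (RingHom.fst B₁ B₂) z) := by
    obtain ⟨ω, hω⟩ := hc₁ (tmap (RingHom.fst B₁ B₂) z)
    rw [e₁.unique hn h₁ ⟨c₁.toCh hg hT', hω⟩]
    exact hω
  have u₂ : omap2 (algebraMap A A') ω₂ = c₂.v hg hT' (tmap (RingHom.snd B₁ B₂) z) := by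
    obtain ⟨ω, hω⟩ := hc₂ (tmap (RingHom.snd B₁ B₂) z)
    rw [e₂.unique hn h₂ ⟨c₂.toCh hg hT', hω⟩]
    exact hω
  refine ⟨e.toCh hg hT', ?_⟩
  change omap2 (algebraMap A A') (ω₁ + ω₂) = e.v hg hT' z
  rw [map_add, u₁, u₂, he]

end main

end K961
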