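import Groth.Agent.EtCoh.K961.Exist
import Mathlib.RingTheory.Etale.Pi

/-!
# The symbol trace of a product
-/

set_option autoImplicit false
set_option linter.unusedSectionVars false
universe u v w'

noncomputable section

open scoped TensorProduct

namespace K961

open KaehlerDifferential K611.Gam K611.Gam2 K611.Frame K611.Top K720.Sym K56.T4 K961.Inv

theorem etale_prod (A B C : Type u) [CommRing A] [CommRing B] [CommRing C] [Algebra A B] [Algebra A C]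
    [Algebra.Etale A B] [Algebra.Etale A C] : Algebra.Etale A (B × C) := by
  let F : Bool → Type u := fun b => cond b B C
  let i1 : ∀ b, CommRing (F b) := fun b => match b with
    | true => ‹CommRing B›
    | false => ‹CommRing C›
  let i2 : ∀ b, Algebra A (F b) := fun b => match b with
    | true => ‹Algebra A B›
    | false => ‹Algebra A C›
  have i3 : ∀ b, Algebra.Etale A (F b) := fun b => match b with
    | true => ‹Algebra.Etale A B›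
    | false => ‹Algebra.Etale A C›
  let e : (Π b, F b) ≃ₐ[A] B × C :=
    { toFun := fun f => (f true, f false)
      invFun := fun p b => match b with
        | true => p.1
        | false => p.2
      left_inv := by
        intro f; funext b; cases b <;> rfl
      right_inv := by intro p; rfl
      map_mul' := by intro f g; rfl
      map_add' := by intro f g; rfl
      commutes' := by intro a; rfl }
  exact .of_equiv e

/-- The localization of a product. -/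
theorem away_prod {B₁ B₂ C₁ C₂ : Type*} [CommRing B₁] [CommRing B₂] [CommRing C₁] [CommRing C₂] [Algebra B₁ C₁]
    [Algebra B₂ C₂] [Algebra (B₁ × B₂) (C₁ × C₂)]
    (h : ∀ b : B₁ × B₂, algebraMap (B₁ × B₂) (C₁ × C₂) b = (algebraMap B₁ C₁ b.1, algebraMap B₂ C₂ b.2))
    (g : B₁ × B₂) [IsLocalization.Away g.1 C₁] [IsLocalization.Away g.2 C₂] : IsLocalization.Away g (C₁ × C₂) where
  map_units := by
    rintro ⟨_, k, rfl⟩
    change IsUnit (algebraMap (B₁ × B₂) (C₁ × C₂) (g ^ k))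
    rw [h, Prod.isUnit_iff]
    exact ⟨IsLocalization.map_units C₁ (⟨g.1 ^ k, k, rfl⟩ : Submonoid.powers g.1),
      IsLocalization.map_units C₂ (⟨g.2 ^ k, k, rfl⟩ : Submonoid.powers g.2)⟩
  surj := by
    rintro ⟨y₁, y₂⟩
    obtain ⟨⟨b₁, ⟨_, k₁, rfl⟩⟩, h₁⟩ := IsLocalization.surj (Submonoid.powers g.1) y₁
    obtain ⟨⟨b₂, ⟨_, k₂, rfl⟩⟩, h₂⟩ := IsLocalization.surj (Submonoid.powers g.2) y₂
    refine ⟨⟨(b₁ * g.1 ^ k₂, b₂ * g.2 ^ k₁), ⟨g ^ (k₁ + k₂), k₁ + k₂, rfl⟩⟩, ?_⟩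
    change y₁ * algebraMap B₁ C₁ (g.1 ^ k₁) = algebraMap B₁ C₁ b₁ at h₁
    change y₂ * algebraMap B₂ C₂ (g.2 ^ k₂) = algebraMap B₂ C₂ b₂ at h₂
    change (y₁, y₂) * algebraMap (B₁ × B₂) (C₁ × C₂) (g ^ (k₁ + k₂)) =
      algebraMap (B₁ × B₂) (C₁ × C₂) (b₁ * g.1 ^ k₂, b₂ * g.2 ^ k₁)
    rw [h, h]
    change (y₁ * algebraMap B₁ C₁ (g.1 ^ (k₁ + k₂)), y₂ * algebraMap B₂ C₂ (g.2 ^ (k₁ + k₂))) = _
    rw [pow_add, pow_add, map_mul, map_mul, map_mul, map_mul, ← mul_assoc, h₁, mul_left_comm, h₂]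
    exact Prod.ext rfl (mul_comm _ _)
  exists_of_eq := by
    rintro ⟨x₁, x₂⟩ ⟨y₁, y₂⟩ hxy
    rw [h, h, Prod.mk.injEq] at hxy
    obtain ⟨⟨_, k₁, rfl⟩, h₁⟩ := IsLocalization.exists_of_eq (M := Submonoid.powers g.1) hxy.1
    obtain ⟨⟨_, k₂, rfl⟩, h₂⟩ := IsLocalization.exists_of_eq (M := Submonoid.powers g.2) hxy.2
    refine ⟨⟨g ^ (k₁ + k₂), k₁ + k₂, rfl⟩, ?_⟩
    change g.1 ^ k₁ * x₁ = g.1 ^ k₁ * y₁ at h₁
    change g.2 ^ k₂ * x₂ = g.2 ^ k₂ * y₂ at h₂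
    change (g.1 ^ (k₁ + k₂) * x₁, g.2 ^ (k₁ + k₂) * x₂) = (g.1 ^ (k₁ + k₂) * y₁, g.2 ^ (k₁ + k₂) * y₂)
    rw [pow_add, pow_add, mul_comm (g.1 ^ k₁), mul_assoc, h₁, mul_assoc, mul_assoc, mul_assoc, h₂]

section prod

variable {p n : ℕ} [hp : Fact p.Prime] {A : Type u} [CommRing A] {T : Tor p n A} {B₁ B₂ : Type u} [CommRing B₁]
  [CommRing B₂] [Algebra A B₁] [Algebra A B₂] {g : A} {A' : Type u} [CommRing A'] [Algebra A A'] {T' : Tor p n A'}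
  [IsLocalization.Away g A'] (hg : g ∈ nonZeroDivisors A) (hT' : Cpt T T' (algebraMap A A'))
  (e₁ : ChE T B₁ g T') (e₂ : ChE T B₂ g T')

omit e₂ in
/-- The value. -/
def ChE.v : Tn B₁ →+ Om2 A' := (e₁.toCh hg hT').val

theorem ChE.exists_prod' : ∃ (e : ChE T (B₁ × B₂) g T') (π₁ : e.E →+* e₁.E) (π₂ : e.E →+* e₂.E)
    (ρ₁ : e.B' →+* e₁.B') (ρ₂ : e.B' →+* e₂.B'), (∀ x, e₁.q (π₁ x) = ρ₁ (e.q x)) ∧ (∀ x, e₂.q (π₂ x) = ρ₂ (e.q x)) ∧
    (∀ b, ρ₁ (algebraMap (B₁ × B₂) e.B' b) = algebraMap B₁ e₁.B' b.1) ∧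
    (∀ b, ρ₂ (algebraMap (B₁ × B₂) e.B' b) = algebraMap B₂ e₂.B' b.2) ∧ Cpt e.TE e₁.TE π₁ ∧ Cpt e.TE e₂.TE π₂ ∧
    ∀ η : Om2 e.E, tr2 T'.fr e.TE.fr η = tr2 T'.fr e₁.TE.fr (omap2 π₁ η) + tr2 T'.fr e₂.TE.fr (omap2 π₂ η) := by
  have hE : Algebra.Etale A' (e₁.E × e₂.E) := etale_prod A' e₁.E e₂.E
  obtain ⟨TE, hTE⟩ := exists_tor_etale T' (algebraMap A' (e₁.E × e₂.E)) (RingHom.etale_algebraMap.2 hE)
  let _ : Algebra (B₁ × B₂) (e₁.B' × e₂.B') :=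
    (RingHom.prodMap (algebraMap B₁ e₁.B') (algebraMap B₂ e₂.B')).toAlgebra
  have hloc : IsLocalization.Away (algebraMap A (B₁ × B₂) g) (e₁.B' × e₂.B') := by
    have _ : IsLocalization.Away (algebraMap A (B₁ × B₂) g).1 e₁.B' := e₁.lB'
    have _ : IsLocalization.Away (algebraMap A (B₁ × B₂) g).2 e₂.B' := e₂.lB'
    exact away_prod (fun b => rfl) _
  let q : e₁.E × e₂.E →+* e₁.B' × e₂.B' := RingHom.prodMap e₁.q e₂.q
  have hq : Function.Surjective q := by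
    rintro ⟨y₁, y₂⟩
    obtain ⟨x₁, rfl⟩ := e₁.hq y₁
    obtain ⟨x₂, rfl⟩ := e₂.hq y₂
    exact ⟨(x₁, x₂), rfl⟩
  have kq : RingHom.ker q = Ideal.span {(p : e₁.E × e₂.E)} := by
    ext ⟨x₁, x₂⟩
    rw [RingHom.mem_ker, Ideal.mem_span_singleton]
    constructor
    · intro h
      have h1 : x₁ ∈ RingHom.ker e₁.q := congrArg Prod.fst h
      have h2 : x₂ ∈ RingHom.ker e₂.q := congrArg Prod.snd h
      rw [e₁.kq, Ideal.mem_span_singleton] at h1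
      rw [e₂.kq, Ideal.mem_span_singleton] at h2
      obtain ⟨c₁, rfl⟩ := h1
      obtain ⟨c₂, rfl⟩ := h2
      exact ⟨(c₁, c₂), rfl⟩
    · rintro ⟨⟨c₁, c₂⟩, h⟩
      have h1 : (p : e₁.E) ∈ RingHom.ker e₁.q := by rw [e₁.kq]; exact Ideal.mem_span_singleton_self _
      have h2 : (p : e₂.E) ∈ RingHom.ker e₂.q := by rw [e₂.kq]; exact Ideal.mem_span_singleton_self _
      rw [RingHom.mem_ker] at h1 h2
      rw [h]
      change (e₁.q ((p : e₁.E) * c₁), e₂.q ((p : e₂.E) * c₂)) = 0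
      rw [map_mul, map_mul, h1, h2, zero_mul, zero_mul]
      rfl
  let e : ChE T (B₁ × B₂) g T' :=
    { E := e₁.E × e₂.E, TE := TE, cptE := hTE, B' := e₁.B' × e₂.B', q := q, hq := hq, kq := kq,
      comm := fun a => by
        change (e₁.q _, e₂.q _) = _
        exact Prod.ext (e₁.comm a) (e₂.comm a) }
  have hf₁ : Cpt TE e₁.TE (RingHom.fst e₁.E e₂.E) :=
    cpt_of_etale (f := RingHom.id A') (T₁ := T') (T₂ := T') ⟨fun _ => rfl, fun _ => rfl⟩ hTE e₁.cptE _ fun a => rfl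
  have hf₂ : Cpt TE e₂.TE (RingHom.snd e₁.E e₂.E) :=
    cpt_of_etale (f := RingHom.id A') (T₁ := T') (T₂ := T') ⟨fun _ => rfl, fun _ => rfl⟩ hTE e₂.cptE _ fun a => rfl
  refine ⟨e, RingHom.fst e₁.E e₂.E, RingHom.snd e₁.E e₂.E, RingHom.fst e₁.B' e₂.B', RingHom.snd e₁.B' e₂.B',
    fun _ => rfl, fun _ => rfl, fun _ => rfl, fun _ => rfl, hf₁, hf₂, fun η => ?_⟩
  change Om2 (e₁.E × e₂.E) at η
  change tr2 T'.fr TE.fr η = _
  rw [tr2_apply, tr2_apply, tr2_apply, det_nat TE e₁.TE _ hf₁, det_nat TE e₂.TE _ hf₂, ← add_smul]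
  congr 1
  exact Algebra.trace_prod_apply (det TE.fr η)

theorem ChE.exists_prod : ∃ e : ChE T (B₁ × B₂) g T', ∀ z : Tn (B₁ × B₂), e.v hg hT' z =
    e₁.v hg hT' (tmap (RingHom.fst B₁ B₂) z) + e₂.v hg hT' (tmap (RingHom.snd B₁ B₂) z) := by
  obtain ⟨e, π₁, π₂, ρ₁, ρ₂, hq₁, hq₂, hρ₁, hρ₂, hf₁, hf₂, ht⟩ := ChE.exists_prod' e₁ e₂
  refine ⟨e, fun z => ?_⟩
  obtain ⟨y, hy⟩ := (e.toCh hg hT').exists_lift z
  change Tn e.E at y
  change tmap e.q y = tmap (algebraMap (B₁ × B₂) e.B') z at hy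
  have h₁ : e₁.v hg hT' (tmap (RingHom.fst B₁ B₂) z) = tr2 T'.fr e₁.TE.fr (it e₁.TE n (sy (tmap π₁ y))) := by
    refine (e₁.toCh hg hT').val_eq _ _ ?_
    change tmap e₁.q (tmap π₁ y) = tmap (algebraMap B₁ e₁.B') (tmap (RingHom.fst B₁ B₂) z)
    have h := congrArg (tmap ρ₁) hy
    rw [← AddMonoidHom.comp_apply, ← AddMonoidHom.comp_apply, ← tmap_comp, ← tmap_comp] at h ⊢
    rw [show e₁.q.comp π₁ = ρ₁.comp e.q from RingHom.ext hq₁, h]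
    congr 2
    exact RingHom.ext hρ₁
  have h₂ : e₂.v hg hT' (tmap (RingHom.snd B₁ B₂) z) = tr2 T'.fr e₂.TE.fr (it e₂.TE n (sy (tmap π₂ y))) := by
    refine (e₂.toCh hg hT').val_eq _ _ ?_
    change tmap e₂.q (tmap π₂ y) = tmap (algebraMap B₂ e₂.B') (tmap (RingHom.snd B₁ B₂) z)
    have h := congrArg (tmap ρ₂) hy
    rw [← AddMonoidHom.comp_apply, ← AddMonoidHom.comp_apply, ← tmap_comp, ← tmap_comp] at h ⊢
    rw [show e₂.q.comp π₂ = ρ₂.comp e.q from RingHom.ext hq₂, h]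
    congr 2
    exact RingHom.ext hρ₂
  have h : e.v hg hT' z = tr2 T'.fr e.TE.fr (it e.TE n (sy y)) := (e.toCh hg hT').val_eq z y hy
  rw [h, h₁, h₂, ← omap2_sy, ← omap2_sy, ← it_nat e.TE e₁.TE _ hf₁, ← it_nat e.TE e₂.TE _ hf₂, ht]

end prod

end K961
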